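import Cfsg.Agent.Core.FPF
import Cfsg.Agent.Core.Solvable
import Cfsg.Agent.S4142
import Cfsg.Agent.Fusion.FixedPointFree

/-!
Camina pairs: elements of prime-power order outside the kernel, and the primes dividing both the
kernel and the index. If a prime divides both, no nontrivial abelian quotient of the kernel has
order prime to it.
-/

set_option autoImplicit false

namespace Cfsg.Agent.Camina

open Subgroup
open scoped commutatorElement

universe u

variable {G : Type u} [Group G] {N : Subgroup G}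

/-- Every element outside `N` is conjugate to its whole coset. -/
def IsPair (N : Subgroup G) : Prop := ∀ g : G, g ∉ N → ∀ n ∈ N, ∃ x : G, x * g * x⁻¹ = g * n

theorem IsPair.map_mk [N.Normal] (h : IsPair N) (M : Subgroup G) [M.Normal] :
    IsPair (N.map (QuotientGroup.mk' M)) := by
  intro g
  obtain ⟨g, rfl⟩ := QuotientGroup.mk'_surjective M g
  intro hg n hn
  obtain ⟨n, hn', rfl⟩ := Subgroup.mem_map.1 hn
  obtain ⟨x, hx⟩ := h g (fun hgN => hg (Subgroup.mem_map_of_mem _ hgN)) n hn'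
  exact ⟨QuotientGroup.mk' M x, by rw [← map_inv, ← map_mul, ← map_mul, hx, map_mul]⟩

variable [Finite G] {p : ℕ} [Fact p.Prime]

/-- A `p`-element outside `N` has only `p`-elements of `N` in its centraliser. -/
theorem IsPair.eq_one_of_commute (h : IsPair N) {g n : G} (hg : g ∉ N) (hgp : ∃ k, g ^ p ^ k = 1)
    (hn : n ∈ N) (hc : Commute g n) (hnp : (orderOf n).Coprime p) : n = 1 := by
  obtain ⟨k, hk⟩ := hgp
  obtain ⟨x, hx⟩ := h g hg n hn
  obtain ⟨i, -, hi⟩ := (Nat.dvd_prime_pow (Fact.out : p.Prime)).1 (orderOf_dvd_of_pow_eq_one hk)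
  have hcop : (orderOf g).Coprime (orderOf n) := by rw [hi]; exact (hnp.symm.pow_left i)
  have h1 : orderOf (g * n) = orderOf g := by
    rw [← hx]
    exact orderOf_injective (MulAut.conj x).toMonoidHom (MulAut.conj x).injective g
  rw [hc.orderOf_mul_eq_mul_orderOf_of_coprime hcop] at h1
  exact orderOf_eq_one_iff.1
    (Nat.eq_of_mul_eq_mul_left (orderOf_pos g) (h1.trans (mul_one _).symm))

/-- A `p`-element of the quotient lifts to an element of a Sylow subgroup. -/
theorem exists_lift [N.Normal] {b : G ⧸ N} (hb : ∃ k, b ^ p ^ k = 1) :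
    ∃ (P : Sylow p G) (g : G), g ∈ (P : Subgroup G) ∧ QuotientGroup.mk' N g = b := by
  obtain ⟨k, hk⟩ := hb
  have hp : IsPGroup p (zpowers b) := by
    refine IsPGroup.of_card_dvd_pow (n := k) ?_
    rw [Nat.card_zpowers]
    exact orderOf_dvd_of_pow_eq_one hk
  obtain ⟨Q, hQ⟩ := hp.exists_le_sylow
  obtain ⟨P, hP⟩ := Sylow.mapSurjective_surjective (QuotientGroup.mk'_surjective N) p Q
  have h1 : b ∈ (Q : Subgroup (G ⧸ N)) := hQ (mem_zpowers b)
  rw [← hP, Sylow.coe_mapSurjective] at h1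
  obtain ⟨g, hg, hgb⟩ := Subgroup.mem_map.1 h1
  exact ⟨P, g, hg, hgb⟩

/-- With a prime dividing both `|N|` and `|G : N|`, some abelian `p`-subgroup of the quotient is
not cyclic. -/
theorem IsPair.false_of_cyclic [N.Normal] (h : IsPair N) (hpN : p ∣ Nat.card N) (hpi : p ∣ N.index)
    (hcyc : ∀ B : Subgroup (G ⧸ N), IsPGroup p B → IsMulCommutative B → IsCyclic B) : False := by
  classical
  have hp := (Fact.out : p.Prime)
  obtain ⟨b₀, hb₀⟩ := exists_prime_orderOf_dvd_card' (G := G ⧸ N) p (by rwa [← N.index_eq_card])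
  have := Fintype.ofFinite (G ⧸ N)
  obtain ⟨b, hb, hmax⟩ :=
    (Finset.univ.filter fun x : G ⧸ N => ∃ k, x ^ p ^ k = 1).exists_max_image orderOf
      ⟨b₀, Finset.mem_filter.2 ⟨Finset.mem_univ _, 1, by rw [pow_one, ← hb₀, pow_orderOf_eq_one]⟩⟩
  replace hmax : ∀ x : G ⧸ N, (∃ k, x ^ p ^ k = 1) → orderOf x ≤ orderOf b := fun x hx =>
    hmax x (Finset.mem_filter.2 ⟨Finset.mem_univ _, hx⟩)
  replace hb : ∃ k, b ^ p ^ k = 1 := (Finset.mem_filter.1 hb).2
  have hb1 : b ≠ 1 := by
    rintro rfl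
    have h1 := hmax b₀ ⟨1, by rw [pow_one, ← hb₀, pow_orderOf_eq_one]⟩
    rw [hb₀, orderOf_one] at h1
    exact absurd h1 (not_le.2 hp.one_lt)
  obtain ⟨P, g, hgP, hgb⟩ := exists_lift hb
  have hgN : g ∉ N := fun hg => hb1 (hgb ▸ (QuotientGroup.eq_one_iff g).2 hg)
  -- a central element of `P` inside `N`
  obtain ⟨z, hz1, hzN, hzP, hzc⟩ : ∃ z : G, z ≠ 1 ∧ z ∈ N ∧ z ∈ (P : Subgroup G) ∧ Commute g z := by
    set P0 : Subgroup (P : Subgroup G) := N.subgroupOf (P : Subgroup G) with hP0
    have hne : P0 ≠ ⊥ := by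
      intro he
      have hcop : (Nat.card N).Coprime p := by
        refine Nat.Coprime.symm (hp.coprime_iff_not_dvd.2 fun hd => ?_)
        obtain ⟨y, hy⟩ := exists_prime_orderOf_dvd_card' (G := N) p hd
        rw [← orderOf_coe] at hy
        have hy' : IsPGroup p (zpowers (y : G)) :=
          IsPGroup.of_card_dvd_pow (n := 1) (by rw [Nat.card_zpowers, hy, pow_one])
        obtain ⟨Q, hQ⟩ := hy'.exists_le_sylow
        obtain ⟨c, hc⟩ := MulAction.exists_smul_eq G Q P
        have hc' : c * (y : G) * c⁻¹ ∈ (P : Subgroup G) := by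
          rw [← hc, Sylow.coe_subgroup_smul, Subgroup.mem_pointwise_smul_iff_inv_smul_mem]
          simpa [mul_assoc] using hQ (mem_zpowers (y : G))
        have h2 : (⟨_, hc'⟩ : (P : Subgroup G)) ∈ P0 :=
          mem_subgroupOf.2 ((inferInstance : N.Normal).conj_mem _ y.2 c)
        rw [he, mem_bot] at h2
        have h3 : (y : G) = 1 := by simpa [conj_eq_one_iff] using congrArg Subtype.val h2
        rw [h3, orderOf_one] at hy
        exact hp.one_lt.ne hy
      exact hp.not_dvd_one (hcop ▸ Nat.dvd_gcd hpN dvd_rfl)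
    have : Nontrivial P0 := (Subgroup.nontrivial_iff_ne_bot _).2 hne
    have hnil : Group.IsNilpotent (P : Subgroup G) := P.isPGroup'.isNilpotent
    obtain ⟨z, ⟨hz0, hzc⟩, hz1⟩ := (Subgroup.bot_or_exists_ne_one
      (P0 ⊓ Subgroup.center (P : Subgroup G))).resolve_left (Core.inf_center_ne_bot hne)
    exact ⟨z, fun e => hz1 (Subtype.ext e), mem_subgroupOf.1 hz0, z.2,
      congrArg Subtype.val (mem_center_iff.1 hzc ⟨g, hgP⟩)⟩
  set Z := closure ({g, z} : Set G) with hZ
  have hZP : Z ≤ (P : Subgroup G) := (closure_le _).2 (by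
    rintro y (rfl | rfl)
    exacts [hgP, hzP])
  have hZC : Z ≤ centralizer ({g} : Set G) := (closure_le _).2 (by
    rintro y (rfl | rfl)
    · exact mem_centralizer_singleton_iff.2 rfl
    · exact mem_centralizer_singleton_iff.2 hzc.eq.symm)
  have hzp := P.isPGroup'.to_le hZP
  obtain ⟨e, he⟩ := IsPGroup.iff_card.1 hzp
  have hbig : orderOf b * p ∣ Nat.card Z := by
    let f : Z →* G ⧸ N := (QuotientGroup.mk' N).comp Z.subtype
    have h1 : orderOf b ∣ Nat.card f.range := by
      rw [← Nat.card_zpowers]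
      exact card_dvd_of_le (zpowers_le.2 ⟨⟨g, subset_closure (Set.mem_insert g _)⟩, hgb⟩)
    have h2 : p ∣ Nat.card f.ker := by
      let z' : Z := ⟨z, subset_closure (Set.mem_insert_of_mem _ rfl)⟩
      have hzk : z' ∈ f.ker := MonoidHom.mem_ker.2 ((QuotientGroup.eq_one_iff z).2 hzN)
      have hne : f.ker ≠ ⊥ := by
        intro h0
        rw [h0, mem_bot] at hzk
        exact hz1 (congrArg Subtype.val hzk)
      exact (hzp.to_subgroup f.ker).card_eq_or_dvd.resolve_left fun h0 => hne (card_eq_one.1 h0)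
    rw [f.ker.card_eq_card_quotient_mul_card_subgroup,
      Nat.card_congr (QuotientGroup.quotientKerEquivRange f).toEquiv]
    exact Nat.mul_dvd_mul h1 h2
  set Cb := centralizer ({(QuotientGroup.mk g : G ⧸ N)} : Set (G ⧸ N)) with hCb
  have hCcard : Nat.card (centralizer ({g} : Set G)) = Nat.card Cb := (S4142.result N).1 h g hgN
  obtain ⟨S, hS⟩ := Sylow.exists_subgroup_card_pow_prime p (G := Cb) (n := e) (by
    rw [← hCcard, ← he]; exact card_dvd_of_le hZC)
  have hSb : S.map Cb.subtype ≤ zpowers b := by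
    rintro _ ⟨s, hs, rfl⟩
    have hsc : Commute (s : G ⧸ N) b := by
      rw [← hgb]; exact mem_centralizer_singleton_iff.1 s.2
    have hsp : ∃ k, (s : G ⧸ N) ^ p ^ k = 1 := by
      obtain ⟨k, hk⟩ := (IsPGroup.of_card hS) ⟨s, hs⟩
      exact ⟨k, congrArg (fun x : S => ((x : Cb) : G ⧸ N)) hk⟩
    set B := closure ({(s : G ⧸ N), b} : Set (G ⧸ N)) with hB
    have hBc : IsMulCommutative B := Subgroup.isMulCommutative_closure (by
      rintro x (rfl | rfl) y (rfl | rfl)
      exacts [rfl, hsc.eq, hsc.eq.symm, rfl])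
    obtain ⟨i, hi⟩ := hsp
    obtain ⟨j, hj⟩ := hb
    have hBp : IsPGroup p B := by
      rintro ⟨x, hx⟩
      refine ⟨i + j, Subtype.ext ?_⟩
      show x ^ p ^ (i + j) = 1
      induction hx using closure_induction with
      | mem y hy =>
        rcases hy with rfl | rfl
        · rw [pow_add, pow_mul, hi, one_pow]
        · rw [pow_add, mul_comm, pow_mul, hj, one_pow]
      | one => exact one_pow _
      | mul a c ha hc iha ihc =>
        rw [(show Commute a c from congrArg Subtype.val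
          (hBc.is_comm.comm (⟨a, ha⟩ : B) ⟨c, hc⟩)).mul_pow, iha, ihc, mul_one]
      | inv a ha iha => rw [inv_pow, iha, inv_one]
    obtain ⟨w, hw⟩ := isCyclic_iff_exists_zpowers_eq_top.1 (hcyc B hBp hBc)
    have hwz : zpowers (w : G ⧸ N) = B := by
      rw [← B.coe_subtype, ← MonoidHom.map_zpowers, hw, ← MonoidHom.range_eq_map, range_subtype]
    have hle : zpowers b ≤ zpowers (w : G ⧸ N) :=
      hwz.symm ▸ zpowers_le.2 (Subgroup.subset_closure (Set.mem_insert_of_mem _ rfl) : b ∈ B)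
    have heq : zpowers b = zpowers (w : G ⧸ N) := eq_of_le_of_card_ge hle (by
      rw [Nat.card_zpowers, Nat.card_zpowers]
      obtain ⟨k, hk⟩ := hBp w
      exact hmax _ ⟨k, congrArg Subtype.val hk⟩)
    rw [heq, hwz]
    exact subset_closure (Set.mem_insert _ _)
  have h1 := card_dvd_of_le hSb
  rw [card_map_of_injective Cb.subtype_injective, hS, ← he, Nat.card_zpowers] at h1
  have h2 := Nat.le_of_dvd (orderOf_pos b) (hbig.trans h1)
  have h3 : orderOf b * 2 ≤ orderOf b * p := Nat.mul_le_mul_left _ hp.two_le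
  have h4 := orderOf_pos b
  omega

open scoped IsMulCommutative in
/-- If `N` is abelian of order prime to `p`, abelian `p`-subgroups of the quotient are cyclic. -/
theorem IsPair.cyclic_of_abelian [N.Normal] [IsMulCommutative N] (h : IsPair N) (hN : N ≠ ⊥)
    (hcop : (Nat.card N).Coprime p) (B : Subgroup (G ⧸ N)) (hB : IsPGroup p B)
    (hBc : IsMulCommutative B) : IsCyclic B := by
  have hker : N ≤ (MulAut.conjNormal : G →* MulAut N).ker := fun m hm =>
    MonoidHom.mem_ker.2 (MulEquiv.ext fun x => Subtype.ext (by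
      rw [MulAut.conjNormal_apply, MulAut.one_apply]
      have := congrArg Subtype.val (mul_comm (⟨m, hm⟩ : N) x)
      simp only [Subgroup.coe_mul] at this
      rw [this, mul_inv_cancel_right]))
  let φ : B →* MulAut N := (QuotientGroup.lift N MulAut.conjNormal hker).comp B.subtype
  have : Nontrivial N := (Subgroup.nontrivial_iff_ne_bot _).2 hN
  have hfpf : Core.IsFPF φ := fun b hb1 v hv => by
    obtain ⟨k, hk⟩ := hB b
    obtain ⟨P, g, hgP, hgb⟩ :=
      exists_lift (p := p) (b := (b : G ⧸ N)) ⟨k, congrArg Subtype.val hk⟩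
    have hgN : g ∉ N := fun hg =>
      hb1 (Subtype.ext (hgb.symm.trans ((QuotientGroup.eq_one_iff g).2 hg)))
    obtain ⟨i, hi⟩ := P.isPGroup' ⟨g, hgP⟩
    have hfix : g * v * g⁻¹ = (v : G) := by
      have h1 : φ b v = MulAut.conjNormal g v := by
        show QuotientGroup.lift N MulAut.conjNormal hker (b : G ⧸ N) v = _
        rw [← hgb]
        rfl
      rw [h1] at hv
      have := congrArg Subtype.val hv
      rwa [MulAut.conjNormal_apply] at this
    exact Subtype.ext (h.eq_one_of_commute hgN ⟨i, congrArg Subtype.val hi⟩ v.2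
      (mul_inv_eq_iff_eq_mul.1 hfix)
      (Nat.Coprime.coprime_dvd_left (by rw [orderOf_coe]; exact orderOf_dvd_natCard v) hcop))
  exact hfpf.isCyclic_of_comm hBc

/-- No abelian quotient of `N` by a normal subgroup of `G` is nontrivial of order prime to `p`. -/
theorem IsPair.false_of_quotient [N.Normal] (h : IsPair N) (hpN : p ∣ Nat.card N) (hpi : p ∣ N.index)
    (M : Subgroup G) [M.Normal] (hMN : M ≤ N) (hab : ⁅N, N⁆ ≤ M) (hne : ¬ N ≤ M)
    (hcop : (M.relIndex N).Coprime p) : False := by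
  have hNn : (N.map (QuotientGroup.mk' M)).Normal :=
    Subgroup.Normal.map inferInstance _ (QuotientGroup.mk'_surjective M)
  have hcomm : IsMulCommutative (N.map (QuotientGroup.mk' M)) := by
    rw [← Subgroup.le_centralizer_iff_isMulCommutative, ← commutator_eq_bot_iff_le_centralizer,
      ← map_commutator, Subgroup.map_eq_bot_iff, QuotientGroup.ker_mk']
    exact hab
  have hne' : N.map (QuotientGroup.mk' M) ≠ ⊥ := by
    rwa [Ne, Subgroup.map_eq_bot_iff, QuotientGroup.ker_mk']
  have hcard : Nat.card (N.map (QuotientGroup.mk' M)) = M.relIndex N := by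
    rw [← relIndex_bot_left (N.map (QuotientGroup.mk' M)), ← relIndex_comap, MonoidHom.comap_bot,
      QuotientGroup.ker_mk']
  refine h.false_of_cyclic hpN hpi fun B hB hBc => ?_
  let e : (G ⧸ M) ⧸ N.map (QuotientGroup.mk' M) ≃* G ⧸ N :=
    QuotientGroup.quotientQuotientEquivQuotient M N hMN
  let f : B ≃* B.map (e.symm : G ⧸ N →* (G ⧸ M) ⧸ N.map (QuotientGroup.mk' M)) :=
    B.equivMapOfInjective _ e.symm.injective
  have hc' : IsMulCommutative
      (B.map (e.symm : G ⧸ N →* (G ⧸ M) ⧸ N.map (QuotientGroup.mk' M))) :=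
    ⟨⟨fun x y => by
      obtain ⟨a, rfl⟩ := f.surjective x
      obtain ⟨c, rfl⟩ := f.surjective y
      rw [← map_mul, ← map_mul, hBc.is_comm.comm]⟩⟩
  exact (MulEquiv.isCyclic f).2 ((h.map_mk M).cyclic_of_abelian hne' (hcard ▸ hcop) _
    (hB.of_equiv f) hc')

/-- A prime dividing `|N|` and the index is the only prime dividing `|N : N'|`. -/
theorem IsPair.eq_of_dvd_abelianization [N.Normal] (h : IsPair N) (hpN : p ∣ Nat.card N)
    (hpi : p ∣ N.index) {r : ℕ} (hr : r.Prime) (hrd : r ∣ ⁅N, N⁆.relIndex N) : r = p := by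
  by_contra hrp
  have hp := (Fact.out : p.Prime)
  have := Fact.mk hr
  have hdN : ⁅N, N⁆ ≤ N := commutator_le_self N
  set K := ⁅N, N⁆ with hK
  set m := p ^ (Nat.card (N ⧸ K.subgroupOf N)).factorization p with hm
  have hcomm : ∀ a b : N ⧸ K.subgroupOf N, a * b = b * a := by
    intro a b
    obtain ⟨a, rfl⟩ := QuotientGroup.mk_surjective a
    obtain ⟨b, rfl⟩ := QuotientGroup.mk_surjective b
    rw [← QuotientGroup.mk_mul, ← QuotientGroup.mk_mul, QuotientGroup.eq, mem_subgroupOf]
    have : ⁅(b : G)⁻¹, (a : G)⁻¹⁆ ∈ K := commutator_mem_commutator (N.inv_mem b.2) (N.inv_mem a.2)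
    simpa [commutatorElement_def, mul_assoc] using this
  let M : Subgroup G :=
    { carrier := {x | x ∈ N ∧ x ^ m ∈ K}
      one_mem' := ⟨N.one_mem, by rw [one_pow]; exact K.one_mem⟩
      mul_mem' := fun {x y} hx hy => ⟨N.mul_mem hx.1 hy.1, by
        have h1 : ((⟨x, hx.1⟩ * ⟨y, hy.1⟩ : N) : N ⧸ K.subgroupOf N) ^ m = 1 := by
          rw [QuotientGroup.mk_mul, (show Commute _ _ from hcomm _ _).mul_pow, ← QuotientGroup.mk_pow,
            ← QuotientGroup.mk_pow, (QuotientGroup.eq_one_iff _).2 (mem_subgroupOf.2 hx.2),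
            (QuotientGroup.eq_one_iff _).2 (mem_subgroupOf.2 hy.2), mul_one]
        rw [← QuotientGroup.mk_pow, QuotientGroup.eq_one_iff, mem_subgroupOf] at h1
        exact h1⟩
      inv_mem' := fun {x} hx => ⟨N.inv_mem hx.1, by rw [inv_pow]; exact K.inv_mem hx.2⟩ }
  have hMn : M.Normal := ⟨fun x hx g => ⟨(inferInstance : N.Normal).conj_mem x hx.1 g, by
    rw [conj_pow]; exact (inferInstance : K.Normal).conj_mem _ hx.2 g⟩⟩
  have hKM : K ≤ M := fun x hx => ⟨hdN hx, K.pow_mem hx m⟩
  obtain ⟨y, hy⟩ := exists_prime_orderOf_dvd_card' (G := N ⧸ K.subgroupOf N) r hrd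
  obtain ⟨y, rfl⟩ := QuotientGroup.mk_surjective y
  refine h.false_of_quotient hpN hpi M (fun x hx => hx.1) hKM (fun hle => ?_) ?_
  · have h1 : (y : N ⧸ K.subgroupOf N) ^ m = 1 := by
      rw [← QuotientGroup.mk_pow, QuotientGroup.eq_one_iff, mem_subgroupOf]
      exact (hle y.2).2
    have h2 := hy ▸ orderOf_dvd_of_pow_eq_one h1
    exact hrp ((Nat.prime_dvd_prime_iff_eq hr hp).1 (hr.dvd_of_dvd_pow h2))
  · refine Nat.Coprime.symm (hp.coprime_iff_not_dvd.2 fun hd => ?_)
    obtain ⟨x, hx⟩ := exists_prime_orderOf_dvd_card' (G := N ⧸ M.subgroupOf N) p hd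
    obtain ⟨x, rfl⟩ := QuotientGroup.mk_surjective x
    have hxM : x ^ p ∈ M.subgroupOf N := by
      rw [← QuotientGroup.eq_one_iff, QuotientGroup.mk_pow, ← hx, pow_orderOf_eq_one]
    have h1 : (x : N ⧸ K.subgroupOf N) ^ (p * m) = 1 := by
      rw [← QuotientGroup.mk_pow, QuotientGroup.eq_one_iff, mem_subgroupOf, pow_mul,
        Subgroup.coe_pow, Subgroup.coe_pow]
      exact (mem_subgroupOf.1 hxM).2
    have h1' : orderOf (x : N ⧸ K.subgroupOf N) ∣ m := by
      obtain ⟨i, -, hi⟩ := (Nat.dvd_prime_pow hp).1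
        (show orderOf (x : N ⧸ K.subgroupOf N) ∣
          p ^ ((Nat.card (N ⧸ K.subgroupOf N)).factorization p + 1) by
          rw [pow_succ']; exact orderOf_dvd_of_pow_eq_one h1)
      rw [hi, hm]
      exact Nat.pow_dvd_pow p ((hp.pow_dvd_iff_le_factorization Nat.card_pos.ne').1
        (hi ▸ orderOf_dvd_natCard _))
    have h2 : x ∈ M.subgroupOf N := mem_subgroupOf.2 ⟨x.2, by
      have h3 := orderOf_dvd_iff_pow_eq_one.1 h1'
      rw [← QuotientGroup.mk_pow, QuotientGroup.eq_one_iff, mem_subgroupOf] at h3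
      exact h3⟩
    rw [(QuotientGroup.eq_one_iff x).2 h2, orderOf_one] at hx
    exact hp.one_lt.ne hx

end Cfsg.Agent.Camina
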