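import Mathlib
import Cfsg.Agent.MaxClass.Basic
import Cfsg.Agent.Fusion.PGroup
import Cfsg.Agent.RankTwo.Omega

/-!
# The order of an element whose class is `G' \ N`

Let `D = H'` be a `p`-group, `N` normal, `D/N` elementary abelian, all elements of `D \ N` conjugate
to `g`, and `Z(H/N) ≤ D/N`. Then `g ^ p = 1`, or `p = 2` and `g ^ 4 = 1`.
-/

set_option autoImplicit false

namespace Cfsg.Agent.Camina

open Subgroup
open scoped commutatorElement

universe u

variable {H : Type u} [Group H] [Finite H]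

/-- The hypotheses. -/
structure Data (p : ℕ) (N : Subgroup H) (g : H) : Prop where
  prime : p.Prime
  le : N ≤ commutator H
  isPGroup : IsPGroup p (commutator H)
  mem : g ∈ commutator H
  not_mem : g ∉ N
  isConj : ∀ x ∈ commutator H, x ∉ N → IsConj g x
  pow_mem : ∀ x ∈ commutator H, x ^ p ∈ N
  comm_mem : ∀ x ∈ commutator H, ∀ y ∈ commutator H, ⁅x, y⁆ ∈ N
  center_le : ∀ z : H, (∀ x : H, ⁅z, x⁆ ∈ N) → z ∈ commutator H

omit [Finite H] in
theorem mem_comm (x y : H) : ⁅x, y⁆ ∈ commutator H :=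
  commutator_mem_commutator (mem_top x) (mem_top y)

/-! ### The central case -/

/-- In the central case, a non-trivial `N` forces at most four cosets of `H'`. -/
theorem index_le_of_central {p : ℕ} {N : Subgroup H} [N.Normal] {g : H} (h : Data p N g)
    (hD : ∀ d ∈ commutator H, d ∈ N ∨ g⁻¹ * d ∈ N) (hNc : N ≤ center H) (hgc : g ∉ center H)
    (hgz : ∀ x : H, ⁅g, x⁆ ∈ N) :
    ∃ x y : H, ⁅x, y⁆ ∉ N ∧ ∀ w : H, w ∈ commutator H ∨ x * w ∈ commutator H ∨
      y * w ∈ commutator H ∨ x * y * w ∈ commutator H := by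
  classical
  -- commutators modulo `N`
  let π := QuotientGroup.mk' N
  have hπ : ∀ a b : H, ⁅a, b⁆ ∈ N ↔ Commute (π a) (π b) := fun a b => by
    rw [← QuotientGroup.eq_one_iff]
    show π ⁅a, b⁆ = 1 ↔ _
    rw [map_commutatorElement, commutatorElement_eq_one_iff_mul_comm]
    rfl
  have hcom : ∀ a b : H, π ⁅a, b⁆ = 1 ∨ π ⁅a, b⁆ = π g := fun a b => by
    rcases hD _ (mem_comm a b) with h1 | h1
    · exact Or.inl ((QuotientGroup.eq_one_iff _).2 h1)
    · exact Or.inr ((QuotientGroup.eq).2 h1).symm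
  have hgπ : ∀ a : H, Commute (π g) (π a) := fun a => (hπ g a).1 (hgz a)
  have hg2 : π g * π g = 1 := by
    rcases hD (g * g) (mul_mem h.mem h.mem) with h1 | h1
    · rw [← map_mul]; exact (QuotientGroup.eq_one_iff _).2 h1
    · exact absurd (by simpa using h1) h.not_mem
  have hmul : ∀ a b c : H, π ⁅a, b * c⁆ = π ⁅a, b⁆ * π ⁅a, c⁆ := fun a b c => by
    have hz : Commute (π b) (π ⁅a, c⁆) := by
      rcases hcom a c with e | e
      · rw [e]; exact Commute.one_right _
      · rw [e]; exact (hgπ b).symm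
    rw [show ⁅a, b * c⁆ = ⁅a, b⁆ * b * ⁅a, c⁆ * b⁻¹ by simp only [commutatorElement_def]; group,
      map_mul, map_mul, map_mul, mul_assoc (π ⁅a, b⁆), hz.eq, map_inv, mul_assoc, mul_assoc,
      mul_inv_cancel, mul_one]
  obtain ⟨x, y, hxy⟩ : ∃ x y : H, ⁅x, y⁆ ∉ N := by
    by_contra! hall
    refine h.not_mem ((show commutator H ≤ N from ?_) h.mem)
    rw [_root_.commutator_def, commutator_le]
    exact fun a _ b _ => hall a b
  refine ⟨x, y, hxy, ?_⟩
  have hxyg : π ⁅x, y⁆ = π g :=
    (hcom x y).resolve_left fun e => hxy ((QuotientGroup.eq_one_iff _).1 e)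
  have hyxg : π ⁅y, x⁆ = π g := by
    rw [← commutatorElement_inv x y, map_inv, hxyg, inv_eq_iff_mul_eq_one, hg2]
  -- adjusting an element to commute with `x` and `y`
  have hadj : ∀ w : H, ∃ t : H, (t = 1 ∨ t = x ∨ t = y ∨ t = x * y) ∧
      π ⁅x, t * w⁆ = 1 ∧ π ⁅y, t * w⁆ = 1 := by
    intro w
    have hxx : ∀ a : H, π ⁅a, a⁆ = 1 := fun a => by rw [commutatorElement_self, map_one]
    rcases hcom x w with ex | ex <;> rcases hcom y w with ey | ey
    · exact ⟨1, Or.inl rfl, by rw [one_mul, ex], by rw [one_mul, ey]⟩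
    · exact ⟨x, Or.inr (Or.inl rfl), by rw [hmul, hxx, ex, one_mul], by rw [hmul, hyxg, ey, hg2]⟩
    · exact ⟨y, Or.inr (Or.inr (Or.inl rfl)), by rw [hmul, hxyg, ex, hg2],
        by rw [hmul, hxx, ey, one_mul]⟩
    · exact ⟨x * y, Or.inr (Or.inr (Or.inr rfl)),
        by rw [hmul, hmul, hxx, hxyg, ex, one_mul, hg2],
        by rw [hmul, hmul, hxx, hyxg, ey, mul_one, hg2]⟩
  -- an element commuting modulo `N` with a pair commutes with `g`
  have key : ∀ w a b : H, π ⁅a, b⁆ = π g → π ⁅a, w⁆ = 1 → π ⁅b, w⁆ = 1 → Commute w g := by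
    intro w a b hab hwa hwb
    have hcz : ∀ c ∈ N, ∀ d : H, Commute c d := fun c hc d => (mem_center_iff.1 (hNc hc) d).symm
    have hconj : ∀ a : H, π ⁅a, w⁆ = 1 → ∃ c ∈ N, w * a * w⁻¹ = c * a := fun a ha =>
      ⟨⁅w, a⁆, by
        rw [← commutatorElement_inv, inv_mem_iff]; exact (QuotientGroup.eq_one_iff _).1 ha, by
        rw [commutatorElement_def]; group⟩
    obtain ⟨ca, hca, ea⟩ := hconj a hwa
    obtain ⟨cb, hcb, eb⟩ := hconj b hwb
    have h1 : w * ⁅a, b⁆ * w⁻¹ = ⁅a, b⁆ := by
      rw [show w * ⁅a, b⁆ * w⁻¹ = ⁅w * a * w⁻¹, w * b * w⁻¹⁆ by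
        simp only [commutatorElement_def]; group, ea, eb, commutatorElement_def, commutatorElement_def]
      have a1 := hcz ca hca
      have b1 := hcz cb hcb
      rw [mul_inv_rev, mul_inv_rev]
      calc ca * a * (cb * b) * (a⁻¹ * ca⁻¹) * (b⁻¹ * cb⁻¹)
          = ca * (a * cb) * (b * a⁻¹) * (ca⁻¹ * b⁻¹) * cb⁻¹ := by group
        _ = ca * (cb * a) * (b * a⁻¹) * (b⁻¹ * ca⁻¹) * cb⁻¹ := by
          rw [(b1 a).eq, ((a1 b).inv_inv).eq]
        _ = (ca * cb) * ((a * b * a⁻¹ * b⁻¹) * (ca⁻¹ * cb⁻¹)) := by group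
        _ = (ca * cb) * ((ca⁻¹ * cb⁻¹) * (a * b * a⁻¹ * b⁻¹)) := by
          rw [((a1 (a * b * a⁻¹ * b⁻¹)).inv_left.mul_left
            (b1 (a * b * a⁻¹ * b⁻¹)).inv_left).eq]
        _ = a * b * a⁻¹ * b⁻¹ := by
          rw [← mul_assoc (ca * cb), ← (a1 cb).inv_left.inv_right.eq.symm]
          group
    have h2 : g⁻¹ * ⁅a, b⁆ ∈ N := (QuotientGroup.eq).1 hab.symm
    have h3 : Commute w ⁅a, b⁆ := mul_inv_eq_iff_eq_mul.1 h1
    have h4 : g = ⁅a, b⁆ * (g⁻¹ * ⁅a, b⁆)⁻¹ := by group
    rw [h4]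
    exact h3.mul_right ((hcz _ (inv_mem h2) w).symm)
  by_contra! hsmall
  obtain ⟨w, hw0, hwx, hwy, hwxy⟩ := hsmall
  obtain ⟨t, ht, htx, hty⟩ := hadj w
  have hw1 : t * w ∉ commutator H := by
    rcases ht with rfl | rfl | rfl | rfl
    · rwa [one_mul]
    · exact hwx
    · exact hwy
    · exact hwxy
  set w1 := t * w
  obtain ⟨z, hz⟩ : ∃ z : H, ⁅w1, z⁆ ∉ N := by
    by_contra! hall
    exact hw1 (h.center_le w1 hall)
  obtain ⟨s, hs, hsx, hsy⟩ := hadj z
  have hs0 : π ⁅w1, s⁆ = 1 := by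
    have hxw : π ⁅w1, x⁆ = 1 := by rw [← commutatorElement_inv, map_inv, htx, inv_one]
    have hyw : π ⁅w1, y⁆ = 1 := by rw [← commutatorElement_inv, map_inv, hty, inv_one]
    rcases hs with rfl | rfl | rfl | rfl
    · rw [commutatorElement_one_right, map_one]
    · exact hxw
    · exact hyw
    · rw [hmul, hxw, hyw, one_mul]
  have hw2 : π ⁅w1, s * z⁆ = π g := by
    rw [hmul, hs0, one_mul]
    exact (hcom w1 z).resolve_left fun e => hz ((QuotientGroup.eq_one_iff _).1 e)
  have hflip : ∀ a b : H, π ⁅a, b⁆ = 1 → π ⁅b, a⁆ = 1 := fun a b e => by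
    rw [← commutatorElement_inv, map_inv, e, inv_one]
  have hgx : Commute x g := key x w1 (s * z) hw2 (hflip _ _ htx) (hflip _ _ hsx)
  have hgy : Commute y g := key y w1 (s * z) hw2 (hflip _ _ hty) (hflip _ _ hsy)
  refine hgc (mem_center_iff.2 fun v => ?_)
  obtain ⟨r, hr, hrx, hry⟩ := hadj v
  have h1 : Commute (r * v) g := key (r * v) x y hxyg hrx hry
  have h2 : Commute r g := by
    rcases hr with rfl | rfl | rfl | rfl
    · exact Commute.one_left g
    · exact hgx
    · exact hgy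
    · exact hgx.mul_left hgy
  have h3 := h2.inv_left.mul_left h1
  rwa [inv_mul_cancel_left] at h3

/-- Passing to a quotient by a normal subgroup inside `N`. -/
theorem Data.map {p : ℕ} {N : Subgroup H} [N.Normal] {g : H} (h : Data p N g) (M : Subgroup H)
    [M.Normal] (hM : M ≤ N) :
    Data p (N.map (QuotientGroup.mk' M)) (QuotientGroup.mk' M g) := by
  set π := QuotientGroup.mk' M
  have hs : Function.Surjective π := QuotientGroup.mk'_surjective M
  have hD : commutator (H ⧸ M) = (commutator H).map π := by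
    rw [_root_.commutator_def, _root_.commutator_def, map_commutator, map_top_of_surjective π hs]
  have hback : ∀ x : H, π x ∈ N.map π → x ∈ N := fun x hx => by
    have h1 : x ∈ (N.map π).comap π := hx
    rwa [comap_map_eq, QuotientGroup.ker_mk', sup_eq_left.2 hM] at h1
  exact
    { prime := h.prime
      le := hD ▸ map_mono h.le
      isPGroup := hD ▸ h.isPGroup.map π
      mem := hD ▸ mem_map_of_mem π h.mem
      not_mem := fun e => h.not_mem (hback g e)
      isConj := fun x hx hxN => by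
        rw [hD] at hx
        obtain ⟨x', hx', rfl⟩ := hx
        exact π.map_isConj (h.isConj x' hx' fun e => hxN (mem_map_of_mem π e))
      pow_mem := fun x hx => by
        rw [hD] at hx
        obtain ⟨x', hx', rfl⟩ := hx
        rw [← map_pow]
        exact mem_map_of_mem π (h.pow_mem x' hx')
      comm_mem := fun x hx y hy => by
        rw [hD] at hx hy
        obtain ⟨x', hx', rfl⟩ := hx
        obtain ⟨y', hy', rfl⟩ := hy
        rw [← map_commutatorElement]
        exact mem_map_of_mem π (h.comm_mem x' hx' y' hy')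
      center_le := fun z hz => by
        obtain ⟨z', rfl⟩ := hs z
        rw [hD]
        exact mem_map_of_mem π (h.center_le z' fun x => hback _ (by
          rw [map_commutatorElement]; exact hz (π x))) }

/-- The central case. -/
theorem central_case {p : ℕ} {N : Subgroup H} [N.Normal] {g : H} (h : Data p N g)
    (hgz : ∀ x : H, ⁅g, x⁆ ∈ N) : p = 2 ∧ g ^ 4 = 1 := by
  classical
  have hD : ∀ d ∈ commutator H, d ∈ N ∨ g⁻¹ * d ∈ N := by
    intro d hd
    by_cases hdN : d ∈ N
    · exact Or.inl hdN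
    obtain ⟨c, rfl⟩ := isConj_iff.1 (h.isConj d hd hdN)
    right
    rw [show g⁻¹ * (c * g * c⁻¹) = ⁅g⁻¹, c⁆ by simp [commutatorElement_def, mul_assoc]]
    have h1 := hgz c
    rw [show ⁅g⁻¹, c⁆ = g⁻¹ * ⁅g, c⁆⁻¹ * g by simp only [commutatorElement_def]; group]
    simpa using (inferInstance : N.Normal).conj_mem _ (inv_mem h1) g⁻¹
  have hg2 : g ^ 2 ∈ N := by
    rcases hD (g ^ 2) (pow_mem h.mem 2) with h1 | h1
    · exact h1
    · exact absurd (by simpa [pow_two] using h1) h.not_mem
  have hp2 : p = 2 := by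
    by_contra hne
    obtain ⟨m, hm⟩ := h.prime.odd_of_ne_two hne
    have h1 := h.pow_mem g h.mem
    rw [hm, pow_succ, pow_mul] at h1
    exact h.not_mem ((N.mul_mem_cancel_left (pow_mem hg2 m)).1 h1)
  subst hp2
  refine ⟨rfl, ?_⟩
  haveI : Fact (Nat.Prime 2) := ⟨Nat.prime_two⟩
  -- `H` is a 2-group
  have hsq : ∀ x : H, x ^ 2 ∈ commutator H := by
    intro x
    refine h.center_le _ fun y => ?_
    have e : ⁅x ^ 2, y⁆ = x * ⁅x, y⁆ * x⁻¹ * ⁅x, y⁆ := by
      simp only [pow_two, commutatorElement_def]; group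
    rw [e]
    rcases hD _ (mem_comm x y) with h1 | h1
    · exact mul_mem ((inferInstance : N.Normal).conj_mem _ h1 x) h1
    · set n := g⁻¹ * ⁅x, y⁆ with hn
      rw [show ⁅x, y⁆ = g * n by rw [hn]; group,
        show x * (g * n) * x⁻¹ * (g * n) = ⁅x, g⁆ * (g * (x * n * x⁻¹) * g⁻¹) * g ^ 2 * n by
          simp only [commutatorElement_def, pow_two]; group]
      refine mul_mem (mul_mem (mul_mem ?_ ?_) hg2) h1
      · rw [← commutatorElement_inv]; exact inv_mem (hgz x)
      · exact (inferInstance : N.Normal).conj_mem _ ((inferInstance : N.Normal).conj_mem _ h1 x) g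
  have hS : IsPGroup 2 H := by
    intro x
    obtain ⟨k, hk⟩ := h.isPGroup ⟨x ^ 2, hsq x⟩
    refine ⟨k + 1, ?_⟩
    rw [pow_succ', pow_mul]
    exact congrArg Subtype.val hk
  by_cases hN : N = ⊥
  · have h1 : g ^ 2 = 1 := mem_bot.1 (hN ▸ hg2)
    rw [show (4 : ℕ) = 2 * 2 from rfl, pow_mul, h1, one_pow]
  -- a maximal normal subgroup inside `N`
  obtain ⟨M, ⟨hMn, hMN⟩, hMmax⟩ := (Set.toFinite {M : Subgroup H | M.Normal ∧ M < N}).exists_maximal
    ⟨⊥, inferInstance, bot_lt_iff_ne_bot.2 hN⟩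
  set π := QuotientGroup.mk' M with hπ
  have hs : Function.Surjective π := QuotientGroup.mk'_surjective M
  have hNn := (inferInstance : N.Normal).map π hs
  have hNc : N.map π ≤ center (H ⧸ M) := by
    have hne : N.map π ≠ ⊥ := by
      rw [Ne, Subgroup.map_eq_bot_iff, QuotientGroup.ker_mk']
      exact not_le_of_gt hMN
    have h1 := Fusion.pGroup_inf_center_ne_bot (hS.to_quotient M) (N.map π) hne
    have : (N.map π ⊓ center (H ⧸ M)).Normal := inferInstance
    set T := (N.map π ⊓ center (H ⧸ M)).comap π with hT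
    have hMT : M < T := by
      refine lt_of_le_of_ne (fun m hm => ?_) fun e => h1 ?_
      · show π m ∈ N.map π ⊓ center (H ⧸ M)
        rw [show π m = 1 from (QuotientGroup.eq_one_iff m).2 hm]
        exact one_mem _
      · rw [← map_comap_eq_self_of_surjective hs (N.map π ⊓ center (H ⧸ M)), ← hT, ← e,
          Subgroup.map_eq_bot_iff, QuotientGroup.ker_mk']
    have hTN : T ≤ N := by
      rw [hT]
      refine (comap_mono inf_le_left).trans ?_
      rw [comap_map_eq, QuotientGroup.ker_mk', sup_eq_left.2 hMN.le]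
    have hTeq : T = N := by
      by_contra hne'
      exact hMT.not_ge (hMmax ⟨inferInstance, lt_of_le_of_ne hTN hne'⟩ hMT.le)
    calc N.map π = T.map π := by rw [hTeq]
      _ ≤ center (H ⧸ M) := by
        rw [hT, map_comap_eq_self_of_surjective hs]; exact inf_le_right
  have hgc : π g ∉ center (H ⧸ M) := by
    intro hc
    obtain ⟨n, hn, hnM⟩ := SetLike.exists_of_lt hMN
    obtain ⟨c, hc'⟩ := isConj_iff.1 (h.isConj (g * n) (mul_mem h.mem (h.le hn))
      fun e => h.not_mem ((N.mul_mem_cancel_right hn).1 e))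
    apply hnM
    have h1 : π (g * n) = π g := by
      rw [← hc', map_mul, map_mul, mem_center_iff.1 hc, map_inv, mul_inv_cancel_right]
    rw [map_mul, mul_eq_left] at h1
    exact (QuotientGroup.eq_one_iff n).1 h1
  have hd := h.map M hMN.le
  obtain ⟨x', y', hxy, hcov⟩ := index_le_of_central hd (fun d hd' => by
    have hDm : commutator (H ⧸ M) = (commutator H).map π := by
      rw [_root_.commutator_def, _root_.commutator_def, map_commutator, map_top_of_surjective π hs]
    rw [hDm] at hd'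
    obtain ⟨d', hd'', rfl⟩ := hd'
    rcases hD d' hd'' with h1 | h1
    · exact Or.inl (mem_map_of_mem π h1)
    · exact Or.inr (by rw [← map_inv, ← map_mul]; exact mem_map_of_mem π h1)) hNc hgc
    (fun a => by
      obtain ⟨a, rfl⟩ := hs a
      rw [← map_commutatorElement]; exact mem_map_of_mem π (hgz a))
  obtain ⟨x, rfl⟩ := hs x'
  obtain ⟨y, rfl⟩ := hs y'
  set D := commutator H
  have hcov' : ∀ w : H, w ∈ D ∨ x * w ∈ D ∨ y * w ∈ D ∨ x * y * w ∈ D := by
    have hb : ∀ a : H, π a ∈ commutator (H ⧸ M) → a ∈ D := by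
      intro a ha
      have hDm : commutator (H ⧸ M) = D.map π := by
        rw [show D = ⁅(⊤ : Subgroup H), ⊤⁆ from _root_.commutator_def H, _root_.commutator_def,
          map_commutator, map_top_of_surjective π hs]
      rw [hDm] at ha
      have h1 : a ∈ (D.map π).comap π := ha
      rwa [comap_map_eq, QuotientGroup.ker_mk', sup_eq_left.2 (hMN.le.trans h.le)] at h1
    intro w
    rcases hcov (π w) with h1 | h1 | h1 | h1
    · exact Or.inl (hb _ h1)
    · exact Or.inr (Or.inl (hb _ (by rwa [map_mul])))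
    · exact Or.inr (Or.inr (Or.inl (hb _ (by rwa [map_mul]))))
    · exact Or.inr (Or.inr (Or.inr (hb _ (by rwa [map_mul, map_mul]))))
  have hxy' : ⁅x, y⁆ ∉ N := fun e => hxy (by
    rw [← map_commutatorElement]; exact mem_map_of_mem π e)
  -- index four
  have hDcomm : ∀ a ∈ D, ∀ b : H, ⁅a, b⁆ ∈ N := by
    intro a ha b
    rcases hD a ha with h1 | h1
    · rw [commutatorElement_def, mul_assoc, mul_assoc]
      exact mul_mem h1 (by simpa [mul_assoc] using (inferInstance : N.Normal).conj_mem _ (inv_mem h1) b)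
    · have e : ⁅a, b⁆ = g * ⁅g⁻¹ * a, b⁆ * g⁻¹ * ⁅g, b⁆ := by
        simp only [commutatorElement_def]; group
      rw [e]
      refine mul_mem ((inferInstance : N.Normal).conj_mem _ ?_ g) (hgz b)
      rw [commutatorElement_def, mul_assoc, mul_assoc]
      exact mul_mem h1 (by simpa [mul_assoc] using (inferInstance : N.Normal).conj_mem _ (inv_mem h1) b)
  have hxD : x ∉ D := fun e => hxy' (hDcomm x e y)
  have hyD : y ∉ D := fun e => hxy' (by
    rw [← commutatorElement_inv, inv_mem_iff]; exact hDcomm y e x)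
  have hne : (QuotientGroup.mk x : H ⧸ D) ≠ QuotientGroup.mk y := by
    intro e
    refine hxy' ?_
    have h1 := hDcomm _ (QuotientGroup.eq.1 e) x
    rw [show ⁅x, y⁆ = x * ⁅x⁻¹ * y, x⁆⁻¹ * x⁻¹ by simp only [commutatorElement_def]; group]
    exact (inferInstance : N.Normal).conj_mem _ (inv_mem h1) x
  have hi : D.index = 4 := by
    haveI := Fintype.ofFinite (H ⧸ D)
    have h3 : 3 ≤ D.index := by
      rw [index_eq_card, Nat.card_eq_fintype_card]
      refine le_trans ?_ (Finset.card_le_univ ({1, QuotientGroup.mk x, QuotientGroup.mk y} : Finset _))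
      rw [Finset.card_insert_of_notMem, Finset.card_insert_of_notMem, Finset.card_singleton]
      · simpa using hne
      · simp only [Finset.mem_insert, Finset.mem_singleton, not_or]
        exact ⟨fun e => hxD ((QuotientGroup.eq_one_iff x).1 e.symm),
          fun e => hyD ((QuotientGroup.eq_one_iff y).1 e.symm)⟩
    have h4 : D.index ≤ 4 := by
      rw [index_eq_card, Nat.card_eq_fintype_card, ← Finset.card_univ]
      refine le_trans (Finset.card_le_card (t := ({1, QuotientGroup.mk x⁻¹, QuotientGroup.mk y⁻¹,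
        QuotientGroup.mk (x * y)⁻¹} : Finset (H ⧸ D))) fun q _ => ?_) Finset.card_le_four
      obtain ⟨w, rfl⟩ := QuotientGroup.mk_surjective q
      simp only [Finset.mem_insert, Finset.mem_singleton, ← QuotientGroup.mk_one (N := D),
        QuotientGroup.eq]
      rcases hcov' w with h1 | h1 | h1 | h1
      · exact Or.inl (by simpa using inv_mem h1)
      · exact Or.inr (Or.inl (by simpa [← mul_inv_rev] using inv_mem h1))
      · exact Or.inr (Or.inr (Or.inl (by simpa [← mul_inv_rev] using inv_mem h1)))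
      · exact Or.inr (Or.inr (Or.inr (by simpa [← mul_inv_rev] using inv_mem h1)))
    obtain ⟨j, hj⟩ := hS.index D
    have hj2 : j ≤ 2 := by
      by_contra hlt
      have := Nat.pow_le_pow_right two_pos (show 3 ≤ j by omega)
      omega
    interval_cases j <;> omega
  have hDne : D ≠ ⊥ := fun e => by
    have h1 := h.mem
    rw [show commutator H = D from rfl, e, mem_bot] at h1
    exact h.not_mem (h1 ▸ one_mem N)
  -- a cyclic subgroup of index two
  obtain ⟨a, ha⟩ := MaxClass.exists_cyclic_index_two (Nat.card H) H le_rfl hS hi hDne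
  have haN : (zpowers a).Normal := normal_of_index_eq_two ha
  have hDa : D ≤ zpowers a := by
    rw [show D = ⁅(⊤ : Subgroup H), ⊤⁆ from _root_.commutator_def H, commutator_le]
    intro u _ v _
    by_contra huv
    have hu : Nat.card (H ⧸ zpowers a) = 2 := by rw [← index_eq_card, ha]
    have := isCyclic_of_prime_card (α := H ⧸ zpowers a) hu
    apply huv
    rw [← QuotientGroup.eq_one_iff]
    show QuotientGroup.mk' (zpowers a) ⁅u, v⁆ = 1
    rw [map_commutatorElement, commutatorElement_eq_one_iff_mul_comm]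
    exact (IsCyclic.commGroup (α := H ⧸ zpowers a)).mul_comm _ _
  obtain ⟨i, hi'⟩ := mem_zpowers_iff.1 (hDa h.mem)
  obtain ⟨b, hb⟩ : ∃ b, b ∉ zpowers a := by
    by_contra! hall
    rw [show zpowers a = ⊤ from eq_top_iff.2 fun v _ => hall v, index_top] at ha
    omega
  have hclass : ∀ c : H, c * g * c⁻¹ = g ∨ c * g * c⁻¹ = b * g * b⁻¹ := by
    intro c
    have hag : ∀ k ∈ zpowers a, Commute k g := fun k hk => by
      obtain ⟨j, rfl⟩ := mem_zpowers_iff.1 hk
      rw [← hi']
      exact (Commute.refl a).zpow_zpow j i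
    rcases MaxClass.cover_of_index_two ha hb c with hc | hc
    · exact Or.inl (by rw [(hag c hc).eq, mul_inv_cancel_right])
    · right
      obtain ⟨k, hk, rfl⟩ : ∃ k ∈ zpowers a, b * k = c := ⟨b⁻¹ * c, hc, mul_inv_cancel_left b c⟩
      rw [show b * k * g * (b * k)⁻¹ = b * (k * g * k⁻¹) * b⁻¹ by group, (hag k hk).eq,
        mul_inv_cancel_right]
  -- so `N` has at most two elements
  have hN2 : ∀ n ∈ N, n ≠ 1 → g * n = b * g * b⁻¹ := by
    intro n hn hn1
    obtain ⟨c, hc⟩ := isConj_iff.1 (h.isConj (g * n) (mul_mem h.mem (h.le hn))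
      fun e => h.not_mem ((N.mul_mem_cancel_right hn).1 e))
    rcases hclass c with h1 | h1
    · rw [hc, mul_eq_left] at h1
      exact absurd h1 hn1
    · rw [← hc, h1]
  by_contra hg4
  refine hg4 ?_
  by_cases h1 : g ^ 2 = 1
  · rw [show (4 : ℕ) = 2 * 2 from rfl, pow_mul, h1, one_pow]
  · by_contra h4
    have e1 := hN2 _ hg2 h1
    have e2 := hN2 _ (show g ^ 4 ∈ N by rw [show (4:ℕ) = 2 * 2 from rfl, pow_mul]; exact pow_mem hg2 2) h4
    have e3 := mul_left_cancel (e1.trans e2.symm)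
    rw [show (4 : ℕ) = 2 + 2 from rfl, pow_add, left_eq_mul] at e3
    exact h1 e3

end Cfsg.Agent.Camina
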