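import Mathlib
import Cfsg.Agent.Camina.OrderBound

/-!
# The order of an element whose class is `G' \ N`: the non-central case
-/

set_option autoImplicit false

namespace Cfsg.Agent.Camina

open Subgroup
open scoped commutatorElement

universe u

/-- If all stabilisers of an action on a finite set equal `S`, then `S.index` divides the number of
points. -/
theorem index_dvd_card_of_stabilizer_eq {H X : Type*} [Group H] [MulAction H X] [Finite X]
    (S : Subgroup H) (hS : ∀ x : X, MulAction.stabilizer H x = S) : S.index ∣ Nat.card X := by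
  haveI : Finite (MulAction.orbitRel.Quotient H X) := Quotient.finite _
  haveI := Fintype.ofFinite (MulAction.orbitRel.Quotient H X)
  have e : Nat.card X = Nat.card (MulAction.orbitRel.Quotient H X) * S.index := by
    rw [Nat.card_congr (MulAction.selfEquivSigmaOrbits H X), Nat.card_sigma]
    have hc : ∀ ω : MulAction.orbitRel.Quotient H X,
        Nat.card (MulAction.orbit H ω.out) = S.index := fun ω => by
      rw [← hS ω.out, MulAction.index_stabilizer]
      rfl
    simp only [hc, Finset.sum_const, Finset.card_univ, smul_eq_mul, Nat.card_eq_fintype_card]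
  exact e ▸ dvd_mul_left _ _

/-- The arithmetic step. -/
theorem pow_sub_one_contradiction {p a b e s t : ℕ} (hp : 2 ≤ p) (hb : 0 < b) (hba : b < a)
    (he : 0 < e) (hea : e < a) (hst : s * t = p ^ a - 1) (hs : s ∣ p ^ b - 1) (ht : t ∣ p ^ e - 1) :
    False := by
  have hhalf : ∀ {c : ℕ}, 0 < c → c < a → 2 * Nat.gcd a c ≤ a := by
    intro c hc hca
    obtain ⟨k, hk⟩ := Nat.gcd_dvd_left a c
    have hd : Nat.gcd a c ≤ c := Nat.gcd_le_right a hc
    set d := Nat.gcd a c
    rcases Nat.lt_or_ge k 2 with hlt | hge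
    · interval_cases k <;> omega
    · calc 2 * d = d * 2 := Nat.mul_comm _ _
        _ ≤ d * k := Nat.mul_le_mul_left d hge
        _ = a := hk.symm
  have key : ∀ {c x : ℕ}, 0 < c → x ∣ p ^ a - 1 → x ∣ p ^ c - 1 → x ≤ p ^ Nat.gcd a c - 1 := by
    intro c x hc hxa hxc
    have h1 := Nat.dvd_gcd hxa hxc
    rw [Nat.pow_sub_one_gcd_pow_sub_one] at h1
    refine Nat.le_of_dvd ?_ h1
    have h2 : 2 ≤ p ^ Nat.gcd a c :=
      le_trans hp (Nat.le_self_pow (Nat.gcd_pos_of_pos_right a hc).ne' p)
    omega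
  have h1 := key hb ⟨t, hst.symm⟩ hs
  have h2 := key he ⟨s, (Nat.mul_comm t s).trans hst |>.symm⟩ ht
  have h3 := Nat.mul_le_mul h1 h2
  have h4 : 2 * Nat.gcd a b ≤ a := hhalf hb hba
  have h5 : 2 * Nat.gcd a e ≤ a := hhalf he hea
  set A := p ^ Nat.gcd a b
  set B := p ^ Nat.gcd a e
  have h6 : A * B ≤ p ^ a := by
    rw [← pow_add]
    exact Nat.pow_le_pow_right (by omega) (by omega)
  have hA : 2 ≤ A := le_trans hp (Nat.le_self_pow (Nat.gcd_pos_of_pos_right a hb).ne' p)
  have hB : 2 ≤ B := le_trans hp (Nat.le_self_pow (Nat.gcd_pos_of_pos_right a he).ne' p)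
  have h7 : (A - 1) * (B - 1) + 1 < A * B := by
    obtain ⟨u, hu⟩ := Nat.exists_eq_add_of_le hA
    obtain ⟨v, hv⟩ := Nat.exists_eq_add_of_le hB
    rw [hu, hv, show 2 + u - 1 = 1 + u by omega, show 2 + v - 1 = 1 + v by omega]
    nlinarith
  omega

variable {H : Type u} [Group H] [Finite H]

/-- In the quotient by `N`: the centraliser of `g` is the derived subgroup. -/
theorem centralizer_eq_commutator {g : H} (hD : ∀ u ∈ commutator H, ∀ v ∈ commutator H, u * v = v * u)
    (hg : g ∈ commutator H) (hconj : ∀ x ∈ commutator H, x ≠ 1 → IsConj g x)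
    (hZ : center H ≤ commutator H) (hgc : g ∉ center H) : centralizer {g} = commutator H := by
  set C := centralizer ({g} : Set H)
  have hDC : commutator H ≤ C := fun u hu => mem_centralizer_singleton_iff.2 (hD u hu g hg)
  have hCn : C.Normal := Subgroup.Normal.of_commutator_le (G := H) hDC
  have hCD : ∀ v ∈ commutator H, ∀ c ∈ C, c * v = v * c := by
    intro v hv c hc
    by_cases hv1 : v = 1
    · rw [hv1, mul_one, one_mul]
    obtain ⟨k, rfl⟩ := isConj_iff.1 (hconj v hv hv1)
    have h1 : k⁻¹ * c * k ∈ C := by simpa using hCn.conj_mem c hc k⁻¹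
    have h2 := mem_centralizer_singleton_iff.1 h1
    calc c * (k * g * k⁻¹) = k * ((k⁻¹ * c * k) * g) * k⁻¹ := by group
      _ = k * (g * (k⁻¹ * c * k)) * k⁻¹ := by rw [h2]
      _ = k * g * k⁻¹ * c := by group
  obtain ⟨l, hl⟩ : ∃ l, l ∉ C := by
    by_contra! hall
    exact hgc (mem_center_iff.2 fun v => (mem_centralizer_singleton_iff.1 (hall v)))
  let f : commutator H → commutator H := fun v => ⟨⁅(v : H), l⁆, mem_comm _ _⟩
  have hf : Function.Injective f := by
    intro v w hvw
    have h1 : ⁅(v : H), l⁆ = ⁅(w : H), l⁆ := congrArg Subtype.val hvw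
    simp only [commutatorElement_def, mul_left_inj] at h1
    set u := (w : H)⁻¹ * v with hu
    have h2 : u * l = l * u := by
      calc u * l = (w : H)⁻¹ * (v * l * (v : H)⁻¹) * v := by rw [hu]; group
        _ = (w : H)⁻¹ * (w * l * (w : H)⁻¹) * v := by rw [h1]
        _ = l * u := by rw [hu]; group
    by_contra hne
    have hu1 : u ≠ 1 := fun e => hne (Subtype.ext (inv_mul_eq_one.1 e).symm)
    have huD : u ∈ commutator H := mul_mem (inv_mem w.2) v.2
    obtain ⟨k, hk⟩ := isConj_iff.1 (hconj u huD hu1)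
    apply hl
    have h3 : k⁻¹ * l * k ∈ C := by
      rw [mem_centralizer_singleton_iff]
      calc k⁻¹ * l * k * g = k⁻¹ * (l * (k * g * k⁻¹)) * k := by group
        _ = k⁻¹ * ((k * g * k⁻¹) * l) * k := by rw [hk, h2]
        _ = g * (k⁻¹ * l * k) := by group
    simpa [mul_assoc] using hCn.conj_mem _ h3 k
  refine le_antisymm (fun c hc => ?_) hDC
  obtain ⟨v, hv⟩ := Finite.surjective_of_injective hf ⟨⁅c, l⁆, mem_comm c l⟩
  have h1 : ⁅(v : H), l⁆ = ⁅c, l⁆ := congrArg Subtype.val hv
  simp only [commutatorElement_def, mul_left_inj] at h1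
  set z := (v : H)⁻¹ * c with hz
  have hzl : z * l = l * z := by
    calc z * l = (v : H)⁻¹ * (c * l * c⁻¹) * c := by rw [hz]; group
      _ = (v : H)⁻¹ * (v * l * (v : H)⁻¹) * c := by rw [h1]
      _ = l * z := by rw [hz]; group
  have hzC : z ∈ C := mul_mem (inv_mem (hDC v.2)) hc
  suffices hzc : z ∈ center H by
    have h3 := mul_mem v.2 (hZ hzc)
    rwa [hz, mul_inv_cancel_left] at h3
  refine mem_center_iff.2 fun m => ?_
  set d := ⁅z, m⁆
  have hd : l * d * l⁻¹ = d := by
    have e1 : l * z * l⁻¹ = z := by rw [← hzl, mul_inv_cancel_right]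
    set d' := ⁅m⁻¹, l⁆ with hd'
    have e2 : l * m * l⁻¹ = m * d' := by simp only [hd', commutatorElement_def]; group
    calc l * d * l⁻¹ = ⁅l * z * l⁻¹, l * m * l⁻¹⁆ := by
          simp only [d, commutatorElement_def]; group
      _ = z * m * (d' * z⁻¹) * d'⁻¹ * m⁻¹ := by rw [e1, e2, commutatorElement_def]; group
      _ = z * m * (z⁻¹ * d') * d'⁻¹ * m⁻¹ := by
          have h3 : Commute z d' := hCD d' (mem_comm _ _) z hzC
          rw [h3.inv_left.eq]
      _ = d := by simp only [d, commutatorElement_def]; group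
  by_contra hne
  have hd1 : d ≠ 1 := fun e => hne (commutatorElement_eq_one_iff_mul_comm.1 e).symm
  obtain ⟨k, hk⟩ := isConj_iff.1 (hconj d (mem_comm _ _) hd1)
  apply hl
  have h3 : k⁻¹ * l * k ∈ C := by
    rw [mem_centralizer_singleton_iff]
    calc k⁻¹ * l * k * g = k⁻¹ * (l * (k * g * k⁻¹)) * k := by group
      _ = k⁻¹ * ((k * g * k⁻¹) * l) * k := by rw [hk, ← mul_inv_eq_iff_eq_mul.1 hd]
      _ = g * (k⁻¹ * l * k) := by group
  simpa [mul_assoc] using hCn.conj_mem _ h3 k

variable {p : ℕ} {N : Subgroup H} {g : H}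

/-- The data of the non-central case. -/
structure NonCentral (p : ℕ) (N : Subgroup H) (g : H) : Prop extends Data p N g where
  centralizer_le : ∀ x ∈ commutator H, x ∉ N → ∀ c : H, ⁅x, c⁆ ∈ N → c ∈ commutator H
  index_eq : (commutator H).index + 1 = N.relIndex (commutator H)

theorem NonCentral.mk' [N.Normal] (h : Data p N g) (hg : ∃ x : H, ⁅g, x⁆ ∉ N) :
    NonCentral p N g := by
  set π := QuotientGroup.mk' N
  have hs : Function.Surjective π := QuotientGroup.mk'_surjective N
  set D := commutator H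
  have hD : commutator (H ⧸ N) = D.map π := by
    rw [show D = ⁅(⊤ : Subgroup H), ⊤⁆ from _root_.commutator_def H, _root_.commutator_def,
      map_commutator, map_top_of_surjective π hs]
  have hback : ∀ a : H, π a ∈ D.map π → a ∈ D := fun a ha => by
    have h1 : a ∈ (D.map π).comap π := ha
    rwa [comap_map_eq, QuotientGroup.ker_mk', sup_eq_left.2 h.le] at h1
  have hcentral : ∀ a b : H, ⁅a, b⁆ ∈ N ↔ π a * π b = π b * π a := fun a b => by
    rw [← QuotientGroup.eq_one_iff]
    show π ⁅a, b⁆ = 1 ↔ _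
    rw [map_commutatorElement, commutatorElement_eq_one_iff_mul_comm]
  have hC := centralizer_eq_commutator (H := H ⧸ N) (g := π g) (fun u hu v hv => by
      rw [hD] at hu hv
      obtain ⟨u, hu, rfl⟩ := hu
      obtain ⟨v, hv, rfl⟩ := hv
      exact (hcentral u v).1 (h.comm_mem u hu v hv))
    (hD ▸ mem_map_of_mem π h.mem) (fun x hx hx1 => by
      rw [hD] at hx
      obtain ⟨x, hx, rfl⟩ := hx
      exact π.map_isConj (h.isConj x hx fun e => hx1 ((QuotientGroup.eq_one_iff x).2 e)))
    (fun z hz => by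
      obtain ⟨z, rfl⟩ := hs z
      rw [hD]
      exact mem_map_of_mem π (h.center_le z fun x => (hcentral z x).2
        (mem_center_iff.1 hz (π x)).symm))
    (fun hc => by
      obtain ⟨x, hx⟩ := hg
      exact hx ((hcentral g x).2 (mem_center_iff.1 hc (π x)).symm))
  refine { toData := h, centralizer_le := fun x hx hxN c hc => ?_, index_eq := ?_ }
  · obtain ⟨k, hk⟩ := isConj_iff.1 (h.isConj x hx hxN)
    have h1 : π (k⁻¹ * c * k) ∈ centralizer ({π g} : Set (H ⧸ N)) := by
      rw [mem_centralizer_singleton_iff, eq_comm, ← hcentral]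
      rw [show ⁅g, k⁻¹ * c * k⁆ = k⁻¹ * ⁅k * g * k⁻¹, c⁆ * k by
        simp only [commutatorElement_def]; group, hk]
      simpa using (inferInstance : N.Normal).conj_mem _ hc k⁻¹
    rw [hC, hD] at h1
    simpa [mul_assoc] using (inferInstance : D.Normal).conj_mem _ (hback _ h1) k
  · set Db := D.map π with hDb
    have horb : MulAction.orbit (ConjAct (H ⧸ N)) (π g) = (Db : Set (H ⧸ N)) \ {1} := by
      ext y
      rw [ConjAct.mem_orbit_conjAct]
      constructor
      · intro hy
        obtain ⟨c, rfl⟩ := isConj_iff.1 hy.symm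
        refine ⟨?_, fun e => h.not_mem ?_⟩
        · show _ ∈ Db
          rw [← hD]
          exact (inferInstance : (commutator (H ⧸ N)).Normal).conj_mem _ (hD ▸ mem_map_of_mem π h.mem) c
        · rw [Set.mem_singleton_iff, conj_eq_one_iff] at e
          exact (QuotientGroup.eq_one_iff g).1 e
      · rintro ⟨⟨y, hy, rfl⟩, hy1⟩
        exact (π.map_isConj (h.isConj y hy fun e => hy1 ((QuotientGroup.eq_one_iff y).2 e))).symm
    show D.index + 1 = N.relIndex D
    have h1 := MulAction.index_stabilizer (ConjAct (H ⧸ N)) (π g)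
    rw [horb] at h1
    have h2 : (centralizer ({π g} : Set (H ⧸ N))).index = Nat.card Db - 1 := by
      have h3 := Set.ncard_sdiff_singleton_of_mem (s := (Db : Set (H ⧸ N))) (one_mem Db)
      have h4 : Set.ncard (Db : Set (H ⧸ N)) = Nat.card Db := Nat.card_coe_set_eq _
      rw [← h1, h4] at h3
      rw [← h3]
      have h5 := (centralizer ({π g} : Set (H ⧸ N))).card_mul_index
      have h6 := (MulAction.stabilizer (ConjAct (H ⧸ N)) (π g)).card_mul_index
      rw [Subgroup.nat_card_centralizer_nat_card_stabilizer] at h5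
      haveI : Finite (ConjAct (H ⧸ N)) := Finite.of_equiv _ ConjAct.toConjAct.toEquiv
      exact Nat.eq_of_mul_eq_mul_left Nat.card_pos (h5.trans h6.symm)
    rw [hC, hD, hDb, index_map, sup_eq_left.2 (by rw [QuotientGroup.ker_mk']; exact h.le),
      MonoidHom.range_eq_top.2 hs, index_top, mul_one] at h2
    have h3 : Nat.card Db = N.relIndex D := by
      rw [hDb, ← relIndex_ker, QuotientGroup.ker_mk']
    have := Nat.card_pos (α := D.map π)
    rw [hDb] at h3
    omega

omit [Finite H] in
/-- Twisting the arguments of a commutator by central factors. -/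
theorem commutator_twist {a b x y : H} (hax : Commute a x) (hay : Commute a y) (hab : Commute a b)
    (hbx : Commute b x) (hby : Commute b y) : ⁅a * x, b * y⁆ = ⁅x, y⁆ := by
  rw [commutatorElement_def, commutatorElement_def, mul_inv_rev, mul_inv_rev]
  calc a * x * (b * y) * (x⁻¹ * a⁻¹) * (y⁻¹ * b⁻¹)
      = a * (x * b) * (y * x⁻¹) * (a⁻¹ * y⁻¹) * b⁻¹ := by group
    _ = a * (b * x) * (y * x⁻¹) * (y⁻¹ * a⁻¹) * b⁻¹ := by rw [hbx.eq, hay.inv_inv.eq]
    _ = a * b * ((x * y * x⁻¹ * y⁻¹) * (a⁻¹ * b⁻¹)) := by group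
    _ = a * b * ((a⁻¹ * b⁻¹) * (x * y * x⁻¹ * y⁻¹)) := by
      have h1 : Commute a⁻¹ (x * y * x⁻¹ * y⁻¹) :=
        (((hax.mul_right hay).mul_right hax.inv_right).mul_right hay.inv_right).inv_left
      have h2 : Commute b⁻¹ (x * y * x⁻¹ * y⁻¹) :=
        (((hbx.mul_right hby).mul_right hbx.inv_right).mul_right hby.inv_right).inv_left
      rw [(h1.mul_left h2).eq]
    _ = x * y * x⁻¹ * y⁻¹ := by
      rw [← mul_assoc (a * b), show a * b = b * a from hab.eq]
      group

namespace NonCentral

theorem card_centralizer (h : NonCentral p N g) [N.Normal] :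
    Nat.card (centralizer ({g} : Set H)) = N.relIndex (commutator H) ∧
      ∀ y ∈ N, ∃ d ∈ commutator H, d * g * d⁻¹ = g * y := by
  set D := commutator H
  set C := centralizer ({g} : Set H)
  have hCD : C ≤ D := fun c hc => h.centralizer_le g h.mem h.not_mem c (by
    rw [commutatorElement_eq_one_iff_mul_comm.2 (mem_centralizer_singleton_iff.1 hc).symm]
    exact one_mem N)
  -- the class of `g`
  have hcls : Set.ncard ((D : Set H) \ (N : Set H)) = C.index := by
    have h1 := MulAction.index_stabilizer (ConjAct H) g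
    have horb : MulAction.orbit (ConjAct H) g = (D : Set H) \ N := by
      ext y
      rw [ConjAct.mem_orbit_conjAct]
      constructor
      · intro hy
        obtain ⟨c, rfl⟩ := isConj_iff.1 hy.symm
        refine ⟨(inferInstance : D.Normal).conj_mem g h.mem c, fun e => h.not_mem ?_⟩
        simpa [mul_assoc] using (inferInstance : N.Normal).conj_mem _ e c⁻¹
      · rintro ⟨hy, hyN⟩
        exact (h.isConj y hy hyN).symm
    rw [← horb, ← h1]
    have h5 := C.card_mul_index
    haveI : Finite (ConjAct H) := Finite.of_equiv _ ConjAct.toConjAct.toEquiv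
    have h6 := (MulAction.stabilizer (ConjAct H) g).card_mul_index
    rw [Subgroup.nat_card_centralizer_nat_card_stabilizer] at h5
    exact Nat.eq_of_mul_eq_mul_left Nat.card_pos (h6.trans h5.symm)
  rw [Set.ncard_sdiff h.le] at hcls
  have hD' : Set.ncard (D : Set H) = Nat.card D := Nat.card_coe_set_eq _
  have hN' : Set.ncard (N : Set H) = Nat.card N := Nat.card_coe_set_eq _
  rw [hD', hN'] at hcls
  have hq : Nat.card N * N.relIndex D = Nat.card D := by
    rw [← relIndex_bot_left, relIndex_mul_relIndex _ _ _ bot_le h.le, relIndex_bot_left]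
  have hi := h.index_eq
  have hrel : C.relIndex D = Nat.card N := by
    have h1 := relIndex_mul_index hCD
    rw [← hcls, ← hq] at h1
    have h2 : Nat.card N * N.relIndex D - Nat.card N = Nat.card N * D.index := by
      rw [show N.relIndex D = D.index + 1 from hi.symm, Nat.mul_succ]; omega
    rw [h2] at h1
    exact Nat.eq_of_mul_eq_mul_right (Nat.pos_of_ne_zero index_ne_zero_of_finite) h1
  refine ⟨?_, fun y hy => ?_⟩
  · have h1 : Nat.card C * C.relIndex D = Nat.card D := by
      rw [← relIndex_bot_left, relIndex_mul_relIndex _ _ _ bot_le hCD, relIndex_bot_left]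
    rw [hrel, ← hq, Nat.mul_comm (Nat.card N)] at h1
    exact Nat.eq_of_mul_eq_mul_right Nat.card_pos h1
  · letI : MulAction D H := MulAction.compHom H ((MulAut.conj).comp D.subtype)
    have hst : MulAction.stabilizer D g = C.subgroupOf D := by
      ext d
      rw [MulAction.mem_stabilizer_iff, mem_subgroupOf, mem_centralizer_singleton_iff]
      exact mul_inv_eq_iff_eq_mul
    have horb : MulAction.orbit D g = (fun y => g * y) '' (N : Set H) := by
      refine Set.eq_of_subset_of_ncard_le ?_ ?_ (Set.toFinite _)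
      · rintro _ ⟨d, rfl⟩
        refine ⟨g⁻¹ * ((d : H) * g * (d : H)⁻¹), ?_, mul_inv_cancel_left g _⟩
        have := h.comm_mem g⁻¹ (inv_mem h.mem) d d.2
        simpa [commutatorElement_def, mul_assoc] using this
      · rw [Set.ncard_image_of_injective _ (mul_right_injective g), ← MulAction.index_stabilizer,
          hst, ← relIndex, hrel, hN']
    have h1 : g * y ∈ MulAction.orbit D g := horb ▸ ⟨y, hy, rfl⟩
    obtain ⟨d, hd⟩ := h1
    exact ⟨d, d.2, hd⟩

theorem card_lt (h : NonCentral p N g) [N.Normal] {X : Subgroup H} (hXN : X ≤ N)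
    (hX : ∀ x ∈ X, Commute x g) : Nat.card X < N.relIndex (commutator H) := by
  rw [← h.card_centralizer.1]
  refine Set.Finite.card_lt_card (Set.toFinite _) ⟨fun x hx => ?_, fun hsub => ?_⟩
  · exact mem_centralizer_singleton_iff.2 (hX x hx).eq
  · exact h.not_mem (hXN (hsub (mem_centralizer_singleton_iff.2 rfl)))

theorem one_lt_relIndex (h : NonCentral p N g) : 1 < N.relIndex (commutator H) := by
  refine Nat.one_lt_iff_ne_zero_and_ne_one.2 ⟨?_, fun e => ?_⟩
  · rw [← h.index_eq]; exact Nat.succ_ne_zero _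
  · exact h.not_mem (relIndex_eq_one.1 e h.mem)

/-- `N` is centralised by `H'`. -/
theorem le_centralizer (h : NonCentral p N g) [N.Normal] :
    N ≤ centralizer (commutator H : Set H) := by
  classical
  haveI := Fact.mk h.prime
  set D := commutator H with hDdef
  set A := N ⊓ centralizer (D : Set H) with hAdef
  by_contra hNA
  have hAlt : A < N := lt_of_le_of_ne inf_le_left fun e => hNA (e ▸ inf_le_right)
  have hAq : Nat.card A < N.relIndex D :=
    h.card_lt inf_le_left fun x hx => ((mem_centralizer_iff.1 hx.2 g h.mem).symm)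
  obtain ⟨R, ⟨hRn, hAR, hRN⟩, hRmin⟩ :=
    (Set.toFinite {R : Subgroup H | R.Normal ∧ A < R ∧ R ≤ N}).exists_minimal
      ⟨N, inferInstance, hAlt, le_rfl⟩
  have hmin : ∀ T : Subgroup H, T.Normal → A < T → T ≤ R → T = R := fun T hT hAT hTR =>
    le_antisymm hTR (hRmin ⟨hT, hAT, hTR.trans hRN⟩ hTR)
  set π := QuotientGroup.mk' A
  have hs : Function.Surjective π := QuotientGroup.mk'_surjective A
  have hπA : ∀ {u : H}, π u = 1 ↔ u ∈ A := fun {u} => QuotientGroup.eq_one_iff u
  have hπc : ∀ a b : H, ⁅a, b⁆ ∈ A ↔ π a * π b = π b * π a := fun a b => by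
    rw [← hπA, map_commutatorElement, commutatorElement_eq_one_iff_mul_comm]
  have hcom : ∀ {T : Subgroup (H ⧸ A)}, T ≤ R.map π → T ≠ ⊥ → T.Normal → T = R.map π := by
    intro T hT hne hTn
    have h1 : A < T.comap π := by
      refine lt_of_le_of_ne (fun a ha => ?_) fun e => hne ?_
      · show π a ∈ T
        rw [hπA.2 ha]; exact one_mem T
      · rw [← map_comap_eq_self_of_surjective hs T, ← e, Subgroup.map_eq_bot_iff,
          QuotientGroup.ker_mk']
    have h2 : T.comap π ≤ R := by
      refine (comap_mono hT).trans ?_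
      rw [comap_map_eq, QuotientGroup.ker_mk', sup_eq_left.2 hAR.le]
    rw [← hmin _ inferInstance h1 h2, map_comap_eq_self_of_surjective hs]
  have hRb : R.map π ≠ ⊥ := by
    rw [Ne, Subgroup.map_eq_bot_iff, QuotientGroup.ker_mk']
    exact not_le_of_gt hAR
  have hRbn : (R.map π).Normal := hRn.map π hs
  have hRD : R ≤ D := hRN.trans h.le
  -- `[R, D] ≤ A`
  have hRDc : ∀ r ∈ R, ∀ d ∈ D, π r * π d = π d * π r := by
    have hpD : IsPGroup p (D.map π) := h.isPGroup.map π
    have hz := Fusion.pGroup_inf_center_ne_bot hpD ((R.map π).subgroupOf (D.map π)) (by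
      rw [Ne, subgroupOf_eq_bot, disjoint_iff, inf_eq_left.2 (map_mono hRD)]
      exact hRb)
    set T := R.map π ⊓ centralizer (D.map π : Set (H ⧸ A))
    haveI : (D.map π).Normal := (inferInstance : D.Normal).map π hs
    have hTne : T ≠ ⊥ := by
      obtain ⟨⟨z, hz1, hz2⟩, hzne⟩ := (ne_bot_iff_exists_ne_one).1 hz
      refine (ne_bot_iff_exists_ne_one).2 ⟨⟨(z : H ⧸ A), hz1, ?_⟩, fun e => hzne ?_⟩
      · refine mem_centralizer_iff.2 fun v hv => ?_
        exact congrArg Subtype.val (mem_center_iff.1 hz2 ⟨v, hv⟩)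
      · have e' : (z : H ⧸ A) = 1 := congrArg Subtype.val e
        exact Subtype.ext (Subtype.ext e')
    have hTeq := hcom (T := T) inf_le_left hTne inferInstance
    intro r hr d hd
    have h1 : π r ∈ T := hTeq ▸ mem_map_of_mem π hr
    exact (mem_centralizer_iff.1 h1.2 (π d) (mem_map_of_mem π hd)).symm
  -- exponent `p`
  have hRp : ∀ r ∈ R, r ^ p ∈ A := by
    let T : Subgroup (H ⧸ A) :=
      { carrier := {u | u ∈ R.map π ∧ u ^ p = 1}
        one_mem' := ⟨one_mem _, one_pow p⟩
        mul_mem' := by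
          rintro a b ⟨⟨x, hx, rfl⟩, ha⟩ ⟨⟨y, hy, rfl⟩, hb⟩
          exact ⟨⟨x * y, mul_mem hx hy, map_mul π x y⟩, by
            rw [Commute.mul_pow (hRDc x hx y (hRD hy)), ha, hb, one_mul]⟩
        inv_mem' := fun {a} ha => ⟨inv_mem ha.1, by rw [inv_pow, ha.2, inv_one]⟩ }
    have hTn : T.Normal := ⟨fun u hu v => ⟨hRbn.conj_mem u hu.1 v, by
      rw [conj_pow, hu.2, mul_one, mul_inv_cancel]⟩⟩
    have hTne : T ≠ ⊥ := by
      have hp1 : IsPGroup p (R.map π) := (h.isPGroup.to_le hRD).map π
      haveI : Nontrivial (R.map π) := (nontrivial_iff_ne_bot _).2 hRb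
      obtain ⟨n, hn⟩ := IsPGroup.iff_card.1 hp1
      obtain ⟨u, hu⟩ := exists_prime_orderOf_dvd_card' (G := R.map π) p (hn ▸ dvd_pow_self p fun e => hRb
        (Subgroup.card_eq_one.1 (by rw [hn, e, pow_zero])))
      refine fun e => h.prime.ne_one (hu ▸ orderOf_eq_one_iff.2 (Subtype.ext (mem_bot.1 (e ▸ ?_))))
      exact ⟨u.2, congrArg Subtype.val (hu ▸ pow_orderOf_eq_one u : u ^ p = 1)⟩
    have hTeq := hcom (T := T) (fun u hu => hu.1) hTne hTn
    intro r hr
    have h1 : π r ∈ T := hTeq ▸ mem_map_of_mem π hr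
    rw [← hπA, map_pow]
    exact h1.2
  -- the order of `R / A`
  obtain ⟨b, hb⟩ := IsPGroup.iff_card.1 ((h.isPGroup.to_le hRD).map π : IsPGroup p (R.map π))
  obtain ⟨a, ha⟩ : ∃ a, N.relIndex D = p ^ a := by
    obtain ⟨a, ha⟩ := h.isPGroup.index (N.subgroupOf D)
    exact ⟨a, ha⟩
  have hp1 := h.prime.one_lt
  have hb0 : 0 < b := Nat.pos_of_ne_zero fun e => hRb ((Subgroup.card_eq_one).1 (by rw [hb, e, pow_zero]))
  have hba : b < a := by
    have hd := h.toData.map A inf_le_left
    haveI : (N.map π).Normal := (inferInstance : N.Normal).map π hs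
    have hgA : ∃ x : H ⧸ A, ⁅π g, x⁆ ∉ N.map π := by
      by_contra! hall
      have hD1 := h.index_eq
      have h1 : ∀ x : H, x ∈ D := fun x => h.centralizer_le g h.mem h.not_mem x (by
        have h2 : ⁅g, x⁆ ∈ (N.map π).comap π := by
          show π ⁅g, x⁆ ∈ N.map π
          rw [map_commutatorElement]; exact hall (π x)
        rwa [comap_map_eq, QuotientGroup.ker_mk', sup_eq_left.2 inf_le_left] at h2)
      rw [show commutator H = D from rfl, show D = ⊤ from eq_top_iff.2 fun x _ => h1 x,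
        index_top] at hD1
      -- a perfect group is not of this kind
      haveI := (h.isPGroup.to_le (show (⊤ : Subgroup H) ≤ D from fun x _ => h1 x)).isNilpotent
      haveI : Group.IsNilpotent H := Group.nilpotent_of_surjective
        (Subgroup.topEquiv (G := H)).toMonoidHom (MulEquiv.surjective _)
      haveI : Nontrivial H := nontrivial_iff.2 ⟨g, 1, fun e => h.not_mem (e ▸ one_mem N)⟩
      exact IsSolvable.commutator_lt_top_of_nontrivial H |>.ne (eq_top_iff.2 fun x _ => h1 x)
    have hNC := NonCentral.mk' hd hgA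
    have hlt := hNC.card_lt (X := R.map π) (map_mono hRN) (by
      rintro _ ⟨r, hr, rfl⟩
      exact hRDc r hr g h.mem)
    have hDm : commutator (H ⧸ A) = D.map π := by
      simp only [hDdef, _root_.commutator_def, map_commutator, map_top_of_surjective π hs]
    rw [hDm, relIndex_map_map, QuotientGroup.ker_mk', sup_eq_left.2 (inf_le_left : A ≤ N),
      sup_eq_left.2 ((inf_le_left : A ≤ N).trans h.le), hb, ha] at hlt
    exact (Nat.pow_lt_pow_iff_right hp1).1 hlt
  obtain ⟨c, hcR, hcA⟩ := SetLike.exists_of_lt hAR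
  -- the kernel of `y ↦ [c, y]`
  set W := D ⊓ centralizer ({c} : Set H) with hWdef
  have hcA' : ∀ d ∈ D, ⁅c, d⁆ ∈ A := fun d hd => (hπc c d).2 (hRDc c hcR d hd)
  have hAc : ∀ a ∈ A, ∀ d ∈ D, Commute a d := fun a ha d hd =>
    ((mem_centralizer_iff.1 ha.2 d hd).symm)
  have hNW : N ≤ W := by
    intro y hy
    refine ⟨h.le hy, mem_centralizer_singleton_iff.2 ?_⟩
    obtain ⟨d, hd, hdg⟩ := h.card_centralizer.2 y hy
    have hy' : y = ⁅g⁻¹, d⁆ := by
      rw [commutatorElement_def, inv_inv, show g⁻¹ * d * g * d⁻¹ = g⁻¹ * (d * g * d⁻¹) by group, hdg,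
        inv_mul_cancel_left]
    have e : c * y * c⁻¹ = ⁅⁅c, g⁻¹⁆ * g⁻¹, ⁅c, d⁆ * d⁆ := by
      rw [hy']; simp only [commutatorElement_def]; group
    have hA1 := hcA' g⁻¹ (inv_mem h.mem)
    have hA2 := hcA' d hd
    rw [commutator_twist (hAc _ hA1 _ (inv_mem h.mem)) (hAc _ hA1 _ hd)
      (hAc _ hA1 _ (h.le (inf_le_left (b := centralizer (D : Set H)) hA2)))
      (hAc _ hA2 _ (inv_mem h.mem)) (hAc _ hA2 _ hd), ← hy'] at e
    exact (mul_inv_eq_iff_eq_mul.1 e).symm
  have hWD : ¬ D ≤ W := fun hle => hcA ⟨hRN hcR, mem_centralizer_iff.2 fun d hd =>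
    mem_centralizer_singleton_iff.1 (hle hd).2⟩
  have hWN : ¬ W ≤ N := by
    intro hle
    let φ : D →* H :=
      { toFun := fun d => ⁅c, (d : H)⁆
        map_one' := by simp
        map_mul' := fun d1 d2 => by
          have h1 : ⁅c, (d1 : H) * d2⁆ = ⁅c, (d1 : H)⁆ * ((d1 : H) * ⁅c, (d2 : H)⁆ * (d1 : H)⁻¹) := by
            simp only [commutatorElement_def]; group
          simp only [Subgroup.coe_mul]
          rw [h1, (hAc _ (hcA' d2 d2.2) d1 d1.2).symm.eq, mul_inv_cancel_right] }
    have hker : φ.ker ≤ N.subgroupOf D := fun d hd => mem_subgroupOf.2 (hle ⟨d.2,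
      mem_centralizer_singleton_iff.2 (commutatorElement_eq_one_iff_mul_comm.1 hd).symm⟩)
    have h1 : N.relIndex D ≤ Nat.card φ.range := by
      rw [← index_ker, relIndex]
      exact Nat.le_of_dvd (Nat.pos_of_ne_zero index_ne_zero_of_finite) (index_dvd_of_le hker)
    have h2 : Nat.card φ.range ≤ Nat.card A := card_le_of_le (by
      rintro _ ⟨d, rfl⟩
      exact hcA' d d.2)
    omega
  obtain ⟨e, he⟩ : ∃ e, N.relIndex W = p ^ e := by
    obtain ⟨e, he⟩ := (h.isPGroup.to_le (inf_le_left : W ≤ D)).index (N.subgroupOf W)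
    exact ⟨e, he⟩
  have he0 : 0 < e := Nat.pos_of_ne_zero fun e0 => hWN (relIndex_eq_one.1 (by rw [he, e0, pow_zero]))
  have hea : e < a := by
    have h1 := relIndex_mul_relIndex N W D hNW inf_le_left
    have h2 : W.relIndex D ≠ 1 := fun e1 => hWD (relIndex_eq_one.1 e1)
    have h3 : W.relIndex D ≠ 0 := index_ne_zero_of_finite
    rw [he, ha] at h1
    refine (Nat.pow_lt_pow_iff_right hp1).1 ?_
    calc p ^ e < p ^ e * W.relIndex D :=
          lt_mul_of_one_lt_right (pow_pos h.prime.pos e) (by omega)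
      _ = p ^ a := h1
  -- the stabiliser of `c A`
  set S := (centralizer ({π c} : Set (H ⧸ A))).comap π with hSdef
  have hDS : D ≤ S := fun d hd => mem_centralizer_singleton_iff.2 (hRDc c hcR d hd).symm
  haveI hSn : S.Normal := Subgroup.Normal.of_commutator_le (G := H) hDS
  have hSR : ∀ r ∈ R, r ∉ A → (centralizer ({π r} : Set (H ⧸ A))).comap π = S := by
    have key : ∀ r ∈ R, r ∉ A → ∀ r' ∈ R, ∀ l ∈ (centralizer ({π r} : Set (H ⧸ A))).comap π,
        π l * π r' = π r' * π l := by
      intro r hr hrA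
      set S' := (centralizer ({π r} : Set (H ⧸ A))).comap π with hS'
      have hDS' : D ≤ S' := fun d hd => mem_centralizer_singleton_iff.2 (hRDc r hr d hd).symm
      haveI : S'.Normal := Subgroup.Normal.of_commutator_le (G := H) hDS'
      haveI : (S'.map π).Normal := (inferInstance : S'.Normal).map π hs
      have hTne : R.map π ⊓ centralizer (S'.map π : Set (H ⧸ A)) ≠ ⊥ := by
        refine (ne_bot_iff_exists_ne_one).2 ⟨⟨π r, mem_map_of_mem π hr, ?_⟩, fun e => hrA ?_⟩
        · refine mem_centralizer_iff.2 ?_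
          rintro _ ⟨l, hl, rfl⟩
          exact mem_centralizer_singleton_iff.1 hl
        · exact hπA.1 (congrArg Subtype.val e)
      have hTeq := hcom (T := R.map π ⊓ centralizer (S'.map π : Set (H ⧸ A))) inf_le_left hTne inferInstance
      intro r' hr' l hl
      have h1 : π r' ∈ R.map π ⊓ centralizer (S'.map π : Set (H ⧸ A)) := by
        rw [hTeq]; exact mem_map_of_mem π hr'
      exact mem_centralizer_iff.1 h1.2 (π l) (mem_map_of_mem π hl)
    intro r hr hrA
    exact le_antisymm (fun l hl => mem_centralizer_singleton_iff.2 (key r hr hrA c hcR l hl))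
      (fun l hl => mem_centralizer_singleton_iff.2 (key c hcR hcA r hr l hl))
  have hsdvd : S.index ∣ p ^ b - 1 := by
    let X := {u : H ⧸ A // u ∈ R.map π ∧ u ≠ 1}
    letI : MulAction H X :=
      { smul := fun x u => ⟨π x * u.1 * (π x)⁻¹, hRbn.conj_mem _ u.2.1 _,
          fun e => u.2.2 (conj_eq_one_iff.1 e)⟩
        one_smul := fun u => Subtype.ext (by show π 1 * u.1 * (π 1)⁻¹ = u.1; simp)
        mul_smul := fun x y u => Subtype.ext (by
          show π (x * y) * u.1 * (π (x * y))⁻¹ = π x * (π y * u.1 * (π y)⁻¹) * (π x)⁻¹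
          rw [map_mul]; group) }
    have hst : ∀ u : X, MulAction.stabilizer H u = S := by
      rintro ⟨_, ⟨r, hr, rfl⟩, hr1⟩
      rw [← hSR r hr fun e => hr1 (hπA.2 e)]
      ext x
      rw [MulAction.mem_stabilizer_iff, mem_comap, mem_centralizer_singleton_iff, Subtype.ext_iff]
      exact mul_inv_eq_iff_eq_mul
    have h1 := index_dvd_card_of_stabilizer_eq S hst
    have h2 : Nat.card X = Nat.card (R.map π) - 1 := by
      have h3 := Set.ncard_sdiff_singleton_of_mem (s := (R.map π : Set (H ⧸ A))) (one_mem (R.map π))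
      rw [← Nat.card_coe_set_eq, ← Nat.card_coe_set_eq] at h3
      exact h3
    rwa [h2, hb] at h1
  have htdvd : D.relIndex S ∣ p ^ e - 1 := by
    set ρ := QuotientGroup.mk' N with hρ
    have hnorm : ∀ l ∈ S, ∀ w ∈ W, l * w * l⁻¹ ∈ W := by
      intro l hl w hw
      refine ⟨(inferInstance : D.Normal).conj_mem w hw.1 l, mem_centralizer_singleton_iff.2 ?_⟩
      have h1 : ⁅l, c⁆ ∈ A := (hπc l c).2 (mem_centralizer_singleton_iff.1 hl)
      have h2 : Commute ⁅l, c⁆ (l * w * l⁻¹) :=
        hAc _ h1 _ ((inferInstance : D.Normal).conj_mem w hw.1 l)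
      have h3 : Commute (l * c * l⁻¹) (l * w * l⁻¹) :=
        (Commute.conj_iff (h := l)).2 (mem_centralizer_singleton_iff.1 hw.2).symm
      have h4 : c = ⁅l, c⁆⁻¹ * (l * c * l⁻¹) := by simp only [commutatorElement_def]; group
      rw [h4]
      exact (h2.inv_left.mul_left h3).symm.eq
    let X := {u : H ⧸ N // u ∈ W.map ρ ∧ u ≠ 1}
    letI : MulAction S X :=
      { smul := fun x u => ⟨ρ x * u.1 * (ρ x)⁻¹, by
          obtain ⟨w, hw, hwu⟩ := u.2.1
          rw [← hwu]
          exact ⟨(x : H) * w * (x : H)⁻¹, hnorm x x.2 w hw, by rw [map_mul, map_mul, map_inv]⟩,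
          fun e => u.2.2 (conj_eq_one_iff.1 e)⟩
        one_smul := fun u => Subtype.ext (by
          show ρ ((1 : S) : H) * u.1 * (ρ ((1 : S) : H))⁻¹ = u.1; simp)
        mul_smul := fun x y u => Subtype.ext (by
          show ρ ((x * y : S) : H) * u.1 * (ρ ((x * y : S) : H))⁻¹ =
            ρ x * (ρ y * u.1 * (ρ y)⁻¹) * (ρ x)⁻¹
          rw [Subgroup.coe_mul, map_mul]; group) }
    have hρc : ∀ a b : H, ⁅a, b⁆ ∈ N ↔ ρ a * ρ b = ρ b * ρ a := fun a b => by
      rw [← QuotientGroup.eq_one_iff]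
      show ρ ⁅a, b⁆ = 1 ↔ _
      rw [map_commutatorElement, commutatorElement_eq_one_iff_mul_comm]
    have hst : ∀ u : X, MulAction.stabilizer S u = D.subgroupOf S := by
      rintro ⟨_, ⟨w, hw, rfl⟩, hw1⟩
      ext x
      rw [MulAction.mem_stabilizer_iff, mem_subgroupOf, Subtype.ext_iff]
      refine mul_inv_eq_iff_eq_mul.trans ⟨fun hx => ?_, fun hx => ?_⟩
      · exact h.centralizer_le w hw.1 (fun e => hw1 ((QuotientGroup.eq_one_iff w).2 e)) x
          ((hρc w x).2 hx.symm)
      · exact ((hρc w x).1 (h.comm_mem w hw.1 x hx)).symm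
    have h1 := index_dvd_card_of_stabilizer_eq (H := S) (D.subgroupOf S) hst
    have h2 : Nat.card X = Nat.card (W.map ρ) - 1 := by
      have h3 := Set.ncard_sdiff_singleton_of_mem (s := (W.map ρ : Set (H ⧸ N))) (one_mem (W.map ρ))
      rw [← Nat.card_coe_set_eq, ← Nat.card_coe_set_eq] at h3
      exact h3
    rw [h2, ← relIndex_ker, hρ, QuotientGroup.ker_mk', he] at h1
    exact h1
  refine pow_sub_one_contradiction h.prime.two_le hb0 hba he0 hea ?_ hsdvd htdvd
  rw [Nat.mul_comm, relIndex_mul_index hDS, ← ha, ← h.index_eq]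
  rfl

/-- The order bound in the non-central case. -/
theorem pow_eq_one (h : NonCentral p N g) [N.Normal] : g ^ p = 1 ∨ p = 2 ∧ g ^ 4 = 1 := by
  haveI := Fact.mk h.prime
  set D := commutator H with hDdef
  have hz : ∀ y ∈ N, ∀ d ∈ D, Commute y d := fun y hy d hd =>
    ((mem_centralizer_iff.1 (h.le_centralizer hy) d hd).symm)
  have hexp : ∀ y ∈ N, y ^ p = 1 := by
    intro y hy
    obtain ⟨d, hd, hdg⟩ := h.card_centralizer.2 y hy
    have h1 : d * g ^ p * d⁻¹ = g ^ p * y ^ p := by
      rw [← conj_pow, hdg, ((hz y hy g h.mem).symm).mul_pow]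
    rw [(hz _ (h.pow_mem g h.mem) d hd).symm.eq, mul_inv_cancel_right, left_eq_mul] at h1
    exact h1
  rcases eq_or_ne p 2 with hp2 | hp2
  · right
    refine ⟨hp2, ?_⟩
    subst hp2
    rw [show (4 : ℕ) = 2 * 2 from rfl, pow_mul]
    exact hexp _ (h.pow_mem g h.mem)
  left
  let φ : D →* H :=
    { toFun := fun d => (d : H) ^ p
      map_one' := by simp
      map_mul' := fun a b => by
        simp only [Subgroup.coe_mul]
        have hc := h.comm_mem b b.2 a a.2
        rw [Fusion.mul_pow_of_commute_commutator (hz _ hc a a.2) (hz _ hc b b.2) p,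
          RankTwo.choose_two_kill hp2 (hexp _ hc)]
        simp }
  have hle : ¬ φ.ker ≤ N.subgroupOf D := by
    intro hle
    have h1 : N.relIndex D ≤ Nat.card φ.range := by
      rw [← index_ker, relIndex]
      exact Nat.le_of_dvd (Nat.pos_of_ne_zero index_ne_zero_of_finite) (index_dvd_of_le hle)
    have h2 : Nat.card φ.range ≤ Nat.card N := card_le_of_le (by
      rintro _ ⟨d, rfl⟩
      exact h.pow_mem d d.2)
    have h3 : Nat.card N < N.relIndex D := h.card_lt (X := N) le_rfl fun y hy => hz y hy g h.mem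
    omega
  obtain ⟨x, hx, hxN⟩ := SetLike.not_le_iff_exists.1 hle
  obtain ⟨k, hk⟩ := isConj_iff.1 (h.isConj x x.2 hxN)
  have h1 : (x : H) ^ p = 1 := hx
  rwa [← hk, conj_pow, conj_eq_one_iff] at h1

end NonCentral

/-- **The order bound.** -/
theorem order_bound (h : Data p N g) [N.Normal] : g ^ p = 1 ∨ p = 2 ∧ g ^ 4 = 1 := by
  by_cases hg : ∃ x : H, ⁅g, x⁆ ∉ N
  · exact (NonCentral.mk' h hg).pow_eq_one
  · push Not at hg
    exact Or.inr (central_case h hg)

end Cfsg.Agent.Camina
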