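import Cfsg.Agent.Camina.Basic
import Cfsg.Agent.ProjExt.Criteria
import Cfsg.Agent.Char.Clifford

/-!
Camina pairs with perfect kernel: no prime divides both the kernel and the index. An invariant
character of degree prime to `p` would extend over a Sylow `p`-subgroup, while it is fully ramified.
-/

set_option autoImplicit false

namespace Cfsg.Agent.Camina

open Subgroup Cfsg
open scoped ComplexConjugate commutatorElement

universe u

/-- For a `p`-group, an invariant weight has the same sum modulo `p` over the fixed points. -/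
theorem sum_modEq_sum_fixed {P : Type*} [Group P] {α : Type*} [Fintype α] [MulAction P α]
    [Fintype (MulAction.fixedPoints P α)] {p : ℕ} [Fact p.Prime] (hP : IsPGroup p P) (f : α → ℕ) (hf : ∀ (g : P) a, f (g • a) = f a) :
    ∑ a, f a ≡ ∑ a : MulAction.fixedPoints P α,
      (fun b : MulAction.fixedPoints P α => f (b : α)) a [MOD p] := by
  classical
  letI : MulAction P (Σ a, Fin (f a)) :=
    { smul := fun g x => ⟨g • x.1, Fin.cast (hf g x.1).symm x.2⟩
      one_smul := fun x => by
        rcases x with ⟨a, i⟩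
        refine Sigma.ext (one_smul P a) ?_
        exact (Fin.heq_ext_iff (hf 1 a)).2 rfl
      mul_smul := fun g h x => by
        rcases x with ⟨a, i⟩
        refine Sigma.ext (mul_smul g h a) ?_
        exact (Fin.heq_ext_iff ((hf (g * h) a).trans ((hf g _).trans (hf h a)).symm)).2 rfl }
  have h := hP.card_modEq_card_fixedPoints (Σ a, Fin (f a))
  have e : MulAction.fixedPoints P (Σ a, Fin (f a)) ≃ Σ a : MulAction.fixedPoints P α, Fin (f a) :=
    { toFun := fun x => ⟨⟨x.1.1, fun g => congrArg Sigma.fst (x.2 g)⟩, x.1.2⟩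
      invFun := fun y => ⟨⟨y.1.1, y.2⟩, fun g => by
        refine Sigma.ext (y.1.2 g) ?_
        exact (Fin.heq_ext_iff (congrArg f (y.1.2 g))).2 rfl⟩
      left_inv := fun x => rfl
      right_inv := fun y => rfl }
  rw [Nat.card_congr e, Nat.card_eq_fintype_card, Nat.card_eq_fintype_card, Fintype.card_sigma,
    Fintype.card_sigma] at h
  simpa using h

/-- Inner products of functions supported on a subgroup. -/
theorem index_mul_classInner {G : Type*} [Group G] [Fintype G] (H : Subgroup G) [Fintype H]
    {f f' : G → ℂ} (hf : ∀ g, g ∉ H → f g = 0) :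
    (H.index : ℂ) * classInner f f' = classInner (fun h : H => f h) (fun h : H => f' h) := by
  classical
  have hs : ∑ g : G, f g * conj (f' g) = ∑ h : H, f h * conj (f' h) := by
    rw [← Finset.sum_subset (Finset.subset_univ (Finset.univ.filter fun g => g ∈ H))
      (fun g _ hg => by rw [hf g (by simpa using hg), zero_mul])]
    exact Finset.sum_subtype _ (fun g => by simp) _
  have hH : (Nat.card H : ℂ) ≠ 0 := Nat.cast_ne_zero.2 Nat.card_pos.ne'
  have hi : (H.index : ℂ) ≠ 0 := Nat.cast_ne_zero.2 Subgroup.index_ne_zero_of_finite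
  simp only [classInner, hs]
  rw [← H.card_mul_index, Nat.cast_mul]
  field_simp

variable {G : Type u} [Group G] [Fintype G] {N : Subgroup G} [N.Normal]

/-- A character lying over a nontrivial character of `N` vanishes outside `N`. -/
theorem IsPair.vanish (h : IsPair N) [Fintype N] {χ : G → ℂ} (hχ : IsIrrCharacter G χ) {θ : N → ℂ}
    (hθ : IsIrrCharacter N θ) (hθ1 : θ ≠ fun _ => 1)
    (hover : classInner (fun n : N => χ n) θ ≠ 0) : ∀ g, g ∉ N → χ g = 0 := by
  classical
  obtain ⟨m, ρ, hirr, rfl⟩ := hχ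
  set T : Module.End ℂ (Fin m → ℂ) := ∑ n : N, ρ n with hT
  have hTN : ∀ n : N, ρ n * T = T := fun n => by
    rw [hT, Finset.mul_sum]
    exact Fintype.sum_equiv (Equiv.mulLeft n) _ _ fun k => by
      rw [← map_mul, Equiv.coe_mulLeft, Subgroup.coe_mul]
  let U : Submodule ℂ (Fin m → ℂ) :=
    { carrier := {v | ∀ n : N, ρ n v = v}
      zero_mem' := fun n => map_zero _
      add_mem' := fun {a b} ha hb n => by rw [map_add, ha n, hb n]
      smul_mem' := fun c {a} ha n => by rw [map_smul, ha n] }
  have hUinv : ∀ g : G, ∀ v ∈ U, ρ g v ∈ U := fun g v hv n => by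
    have hm : g⁻¹ * n * g ∈ N := by
      simpa using (inferInstance : N.Normal).conj_mem (n : G) n.2 g⁻¹
    rw [← Module.End.mul_apply, ← map_mul, show (n : G) * g = g * (g⁻¹ * n * g) by group, map_mul,
      Module.End.mul_apply, hv ⟨_, hm⟩]
  intro g hg
  rcases ((Char.isIrreducible_iff (ρ := ρ)).1 hirr).2 U hUinv with hU | hU
  · have hT0 : T = 0 := LinearMap.ext fun v => by
      have : T v ∈ U := fun n => by rw [← Module.End.mul_apply, hTN]
      rw [hU, Submodule.mem_bot] at this
      exact this
    have hsum : ∑ n : N, ρ.character (g * n) = 0 := by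
      simp only [Representation.character, map_mul, ← map_sum, ← Finset.mul_sum, ← hT, hT0,
        mul_zero, map_zero]
    have hconst : ∀ n : N, ρ.character (g * n) = ρ.character g := fun n => by
      obtain ⟨x, hx⟩ := h g hg n n.2
      rw [← hx, ρ.char_conj]
    rw [Finset.sum_congr rfl fun n _ => hconst n, Finset.sum_const, nsmul_eq_mul] at hsum
    exact (mul_eq_zero.1 hsum).resolve_left (Nat.cast_ne_zero.2
      (by rw [Finset.card_univ]; exact Fintype.card_ne_zero))
  · refine absurd ?_ hover
    have h1 : (fun n : N => ρ.character n) = (m : ℂ) • fun _ : N => (1 : ℂ) := by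
      funext n
      have hn : ρ n = 1 := LinearMap.ext fun v => (hU ▸ Submodule.mem_top : v ∈ U) n
      simp [Representation.character, hn, LinearMap.trace_one]
    rw [h1, Char.classInner_smul_left,
      Char.classInner_irr_ne Char.isIrrCharacter_one hθ (Ne.symm hθ1), mul_zero]

/-- No prime divides both a perfect kernel and its index. -/
theorem IsPair.false_of_perfect (h : IsPair N) (hperf : N ≤ ⁅N, N⁆) {p : ℕ} [Fact p.Prime]
    (hpN : p ∣ Nat.card N) (hpi : p ∣ N.index) : False := by
  classical
  have hp := (Fact.out : p.Prime)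
  haveI : Fintype N := Fintype.ofFinite N
  obtain ⟨P⟩ : Nonempty (Sylow p G) := inferInstance
  -- an invariant nontrivial character of degree prime to `p`
  letI : MulAction (P : Subgroup G) (IrrCharacter N) :=
    { smul := fun x θ => ⟨Char.conjFun (x : G)⁻¹ θ.1, Char.isIrr_conjFun _ θ.2⟩
      one_smul := fun θ => Subtype.ext (by
        show Char.conjFun ((1 : (P : Subgroup G)) : G)⁻¹ θ.1 = θ.1
        rw [OneMemClass.coe_one, inv_one, Char.conjFun_one])
      mul_smul := fun x y θ => Subtype.ext (by
        show Char.conjFun ((x * y : (P : Subgroup G)) : G)⁻¹ θ.1 =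
          Char.conjFun (x : G)⁻¹ (Char.conjFun (y : G)⁻¹ θ.1)
        rw [Char.conjFun_conjFun, Subgroup.coe_mul, mul_inv_rev]) }
  choose d hd using fun θ : IrrCharacter N => Char.IsIrr.degree θ.2
  have hdinv : ∀ (x : (P : Subgroup G)) θ, d (x • θ) ^ 2 = d θ ^ 2 := fun x θ => by
    have h1 : (d (x • θ) : ℂ) = d θ := by
      rw [← (hd _).2, ← (hd θ).2]
      exact Char.conjFun_apply_one _ _
    rw [Nat.cast_inj.1 h1]
  have hsum : ∑ θ, d θ ^ 2 = Nat.card N := by
    have := Char.sum_sq_degree (G := N)
    simp only [(hd _).2] at this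
    exact_mod_cast this
  have hmod := sum_modEq_sum_fixed P.isPGroup' (fun θ => d θ ^ 2) hdinv
  rw [hsum] at hmod
  obtain ⟨θ, hθfix, hθ1, hθd⟩ : ∃ θ : IrrCharacter N, θ ∈ MulAction.fixedPoints (P : Subgroup G) _ ∧
      θ.1 ≠ (fun _ => 1) ∧ ¬ p ∣ d θ := by
    by_contra! hall
    let one : MulAction.fixedPoints (P : Subgroup G) (IrrCharacter N) :=
      ⟨⟨fun _ => 1, Char.isIrrCharacter_one⟩, fun x => Subtype.ext rfl⟩
    have h1 : d one.1 = 1 := by
      exact_mod_cast (show ((d one.1 : ℕ) : ℂ) = 1 from ((hd one.1).2).symm)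
    rw [← Finset.add_sum_erase _ _ (Finset.mem_univ one)] at hmod
    have h2 : p ∣ ∑ a ∈ Finset.univ.erase one,
        (fun b : MulAction.fixedPoints (P : Subgroup G) (IrrCharacter N) => d b.1 ^ 2) a := by
      refine Finset.dvd_sum fun a ha => dvd_pow (hall a.1 a.2 fun e => ?_) two_ne_zero
      exact Finset.ne_of_mem_erase ha (Subtype.ext (Subtype.ext e))
    have h3 := (Nat.ModEq.dvd_iff hmod dvd_rfl).1 hpN
    simp only [h1, one_pow] at h3
    exact hp.not_dvd_one ((Nat.dvd_add_left h2).1 h3)
  -- the preimage of a Sylow subgroup of the quotient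
  set U := N ⊔ (P : Subgroup G) with hU
  haveI : Fintype U := Fintype.ofFinite U
  haveI : (N.subgroupOf U).Normal := inferInstance
  haveI : Fintype (N.subgroupOf U) := Fintype.ofFinite _
  let e : N.subgroupOf U ≃* N := Subgroup.subgroupOfEquivOfLe le_sup_left
  have hinert : U ≤ Char.inertia θ.1 :=
    sup_le (Char.le_inertia (Char.isClassFunction_of_isIrr θ.2)) fun x hx => by
      have h1 := congrArg Subtype.val (hθfix (⟨x, hx⟩⁻¹ : (P : Subgroup G)))
      rw [Char.mem_inertia]
      have h2 : Char.conjFun (x⁻¹)⁻¹ θ.1 = θ.1 := h1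
      rwa [inv_inv] at h2
  obtain ⟨a, ha⟩ : ∃ a, N.relIndex U = p ^ a := by
    have h1 : N.relIndex U = N.relIndex (P : Subgroup G) := by rw [hU, sup_comm, Subgroup.relIndex_sup_right]
    obtain ⟨j, hj⟩ := IsPGroup.iff_card.1 P.isPGroup'
    obtain ⟨a, -, ha⟩ := (Nat.dvd_prime_pow hp).1 (hj ▸ Subgroup.relIndex_dvd_card N (P : Subgroup G))
    exact ⟨a, h1.trans ha⟩
  have hUi : ¬ p ∣ U.index := fun hd' =>
    Sylow.not_dvd_index P (hd'.trans (Subgroup.index_dvd_of_le le_sup_right))
  have hNi : N.index = p ^ a * U.index := by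
    rw [← ha, Subgroup.relIndex_mul_index le_sup_left]
  have ha0 : a ≠ 0 := by
    rintro rfl
    rw [hNi, pow_zero, one_mul] at hpi
    exact hUi hpi
  obtain ⟨ν, hν⟩ := ProjExt.exists_detChar_hom
    (Char.IsIrr.isCharacter ((Char.isIrrCharacter_comp_equiv e).2 θ.2))
  have hνone : ∀ n, ν n = 1 := fun n => by
    have hsub : (⊤ : Subgroup N) ≤ commutator N := by
      refine (Subgroup.map_le_map_iff_of_injective N.subtype_injective).1 ?_
      rw [← MonoidHom.range_eq_map, range_subtype, map_subtype_commutator]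
      exact hperf
    exact (congrArg ν (e.symm_apply_apply n).symm).trans
      (Abelianization.commutator_subset_ker (ν.comp e.symm.toMonoidHom) (hsub (mem_top (e n))))
  obtain ⟨η, hη, hηres⟩ := ProjExt.extends_of_det (G := U) (N.subgroupOf U)
    ((Char.isIrrCharacter_comp_equiv e).2 θ.2) (fun g n => by
      have h1 := congrFun (Char.mem_inertia.1 (hinert g.2)) (e n)
      rw [Char.conjFun_apply] at h1
      exact h1)
    (d := d θ) (by simpa using (hd θ).2) (by
      rw [show (N.subgroupOf U).index = p ^ a from ha]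
      exact (hp.coprime_iff_not_dvd.2 hθd).pow_left a)
    1 (fun n => by rw [congrFun hν n, hνone]; simp)
  -- a character of `G` over `θ`
  have hind := Char.isCharacter_indFun N (Char.IsIrr.isCharacter θ.2)
  obtain ⟨χ, hχ⟩ := Char.IsChar.exists_constituent hind fun h0 => by
    have := congrFun h0 1
    rw [Char.indFun_apply_one, Pi.zero_apply, mul_eq_zero] at this
    exact this.elim (Nat.cast_ne_zero.2 Subgroup.index_ne_zero_of_finite)
      (Char.IsIrr.one_ne_zero θ.2)
  set f : N → ℂ := fun n => χ.1 n with hf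
  have hover : classInner f θ.1 ≠ 0 := by
    intro h0
    apply hχ
    rw [Char.classInner_indFun_left N θ.1 (Char.isClassFunction_of_isIrr χ.2),
      ← Char.classInner_conj_symm, h0, map_zero]
  obtain ⟨m, hm⟩ := Char.classInner_isCharacter_eq_natCast
    (Char.isCharacter_res N (Char.IsIrr.isCharacter χ.2)) (Char.IsIrr.isCharacter θ.2)
  have hvan := h.vanish χ.2 θ.2 hθ1 hover
  -- the multiplicity is divisible by the order of the Sylow subgroup of the quotient
  obtain ⟨c, hc⟩ := Char.classInner_isCharacter_eq_natCast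
    (Char.isCharacter_res U (Char.IsIrr.isCharacter χ.2)) (Char.IsIrr.isCharacter hη)
  have hm2 : (m : ℂ) = ((p ^ a * c : ℕ) : ℂ) := by
    have h1 := index_mul_classInner (N.subgroupOf U) (f := fun u : U => χ.1 u) (f' := η)
      fun u hu => hvan u fun hu' => hu (mem_subgroupOf.2 hu')
    rw [hc, show (N.subgroupOf U).index = p ^ a from ha] at h1
    rw [Nat.cast_mul, h1, ← hm]
    simp only [classInner, hηres]
    rw [Nat.card_congr e.toEquiv]
    congr 1
    exact (Fintype.sum_equiv e.toEquiv _ _ fun n => rfl).symm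
  -- the norm is the index
  have hnorm : (N.index : ℂ) = ((m ^ 2 * (Char.inertia θ.1).index : ℕ) : ℂ) := by
    have h1 := index_mul_classInner N (f := χ.1) (f' := χ.1) hvan
    rw [Char.classInner_irr_self χ.2, mul_one] at h1
    rw [h1]
    have hcl : f = classInner f θ.1 • ∑ ψ ∈ Char.orbit θ.1, ψ := Char.clifford χ.2 θ.2 hover
    show classInner f f = _
    nth_rewrite 1 [hcl]
    rw [Char.classInner_smul_left, Char.classInner_sum_left, Finset.sum_congr rfl fun ψ hψ => ?_,
      Finset.sum_const, Char.card_orbit, nsmul_eq_mul]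
    rotate_left
    · exact classInner θ.1 f
    · obtain ⟨g, rfl⟩ := Char.mem_orbit.1 hψ
      have hfix : Char.conjFun g f = f := Char.conjFun_res g (Char.isClassFunction_of_isIrr χ.2)
      refine Eq.trans ?_ (Char.classInner_conjFun g θ.1 f)
      rw [hfix]
    rw [show classInner θ.1 f = (m : ℂ) by rw [← Char.classInner_conj_symm, hm, Complex.conj_natCast],
      show classInner f θ.1 = (m : ℂ) from hm]
    push_cast
    ring
  rw [Nat.cast_inj] at hm2 hnorm
  rw [hm2, hNi] at hnorm
  refine hUi ⟨p ^ (a - 1) * (c ^ 2 * (Char.inertia θ.1).index), ?_⟩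
  refine Nat.eq_of_mul_eq_mul_left (pow_pos hp.pos a) ?_
  rw [hnorm]
  obtain ⟨b, rfl⟩ := Nat.exists_eq_succ_of_ne_zero ha0
  simp [pow_succ]
  ring

end Cfsg.Agent.Camina
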